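import Mathlib.NumberTheory.LSeries.Convergence
import Mathlib.Analysis.Normed.Ring.InfiniteSum
import Mathlib.Analysis.SpecificLimits.Normed
import Mathlib.Analysis.SpecialFunctions.Pow.Real
import Mathlib.Algebra.BigOperators.Finsupp.Basic
import Mathlib.Data.Finsupp.Antidiagonal
import Mathlib.Data.Nat.Choose.Sum

/-!
Dirichlet series counting effective cycles on an abstract set of prime elements with norms.
-/

namespace Groth.Agent.Zeta25

open Finsupp

universe u

variable {P : Type u} (N : P → ℕ)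

/-- The norm of an effective cycle. -/
def nm (α : P →₀ ℕ) : ℕ := α.prod fun x m => N x ^ m

/-- The number of effective cycles of given norm. -/
noncomputable def cycleCoeff (n : ℕ) : ℂ := (Nat.card {α : P →₀ ℕ // nm N α = n} : ℂ)

theorem nm_zero : nm N (0 : P →₀ ℕ) = 1 := Finsupp.prod_zero_index

theorem nm_add (α β : P →₀ ℕ) : nm N (α + β) = nm N α * nm N β := by
  classical
  exact Finsupp.prod_add_index' (fun _ => pow_zero _) fun _ _ _ => pow_add _ _ _

variable {N}

theorem nm_pos (h2 : ∀ x, 2 ≤ N x) (α : P →₀ ℕ) : 0 < nm N α :=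
  Finset.prod_pos fun x _ => pow_pos (lt_of_lt_of_le two_pos (h2 x)) _

variable (h2 : ∀ x, 2 ≤ N x) {σ : ℝ} (hσ : 0 < σ) (hsum : Summable fun x => (N x : ℝ) ^ (-σ))
include h2 hσ hsum

theorem summable_nm : Summable fun α : P →₀ ℕ => (nm N α : ℝ) ^ (-σ) := by
  classical
  set v : P → ℝ := fun x => (N x : ℝ) ^ (-σ) with hv
  set c : ℝ := (1 - (2 : ℝ) ^ (-σ))⁻¹ with hc
  have hlt : (2 : ℝ) ^ (-σ) < 1 := Real.rpow_lt_one_of_one_lt_of_neg one_lt_two (neg_neg_of_pos hσ)
  have hc0 : 0 < c := inv_pos.mpr (by linarith)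
  have hv0 : ∀ x, 0 ≤ v x := fun x => Real.rpow_nonneg (Nat.cast_nonneg _) _
  have hv1 : ∀ x, v x ≤ (2 : ℝ) ^ (-σ) := fun x =>
    Real.rpow_le_rpow_of_nonpos two_pos (by exact_mod_cast h2 x) (neg_nonpos.mpr hσ.le)
  refine summable_of_sum_le (c := Real.exp (c * ∑' x, v x)) (fun α => Real.rpow_nonneg (Nat.cast_nonneg _) _)
    fun u => ?_
  set S := u.biUnion Finsupp.support with hS
  set M := u.sup (fun α => α.sum fun _ m => m) with hM
  have hprod : ∀ α ∈ u, ((nm N α : ℝ)) ^ (-σ) = ∏ x : S, v x ^ α x := by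
    intro α hα
    have hsub : α.support ⊆ S := fun x hx => Finset.mem_biUnion.mpr ⟨α, hα, hx⟩
    rw [nm, Finsupp.prod_of_support_subset α hsub _ (fun _ _ => pow_zero _), Nat.cast_prod,
      ← Real.finset_prod_rpow _ _ (fun x _ => by positivity), Finset.prod_coe_sort S fun x => v x ^ α x]
    refine Finset.prod_congr rfl fun x _ => ?_
    rw [Nat.cast_pow, hv, ← Real.rpow_natCast, ← Real.rpow_natCast, ← Real.rpow_mul (Nat.cast_nonneg _),
      ← Real.rpow_mul (Nat.cast_nonneg _), mul_comm]
  rw [Finset.sum_congr rfl hprod]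
  have himg : ∑ α ∈ u, ∏ x : S, v x ^ α x ≤
      ∑ g ∈ Fintype.piFinset (fun _ : S => Finset.range (M + 1)), ∏ x : S, v x ^ g x := by
    rw [← Finset.sum_image (f := fun g : S → ℕ => ∏ x : S, v x ^ g x) (g := fun (α : P →₀ ℕ) (x : S) => α x)]
    · refine Finset.sum_le_sum_of_subset_of_nonneg ?_ fun g _ _ => Finset.prod_nonneg fun x _ => pow_nonneg (hv0 x) _
      intro g hg
      obtain ⟨α, hα, rfl⟩ := Finset.mem_image.mp hg
      refine Fintype.mem_piFinset.mpr fun x => Finset.mem_range.mpr (Nat.lt_succ_of_le ?_)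
      refine le_trans ?_ (Finset.le_sup (f := fun α : P →₀ ℕ => α.sum fun _ m => m) hα)
      by_cases hx : (x : P) ∈ α.support
      · exact Finset.single_le_sum (f := fun y => α y) (fun _ _ => Nat.zero_le _) hx
      · simp [Finsupp.notMem_support_iff.mp hx]
    · intro α hα β hβ e
      ext x
      by_cases hx : x ∈ S
      · exact congrFun e ⟨x, hx⟩
      · rw [Finsupp.notMem_support_iff.mp fun h => hx (Finset.mem_biUnion.mpr ⟨α, hα, h⟩),
          Finsupp.notMem_support_iff.mp fun h => hx (Finset.mem_biUnion.mpr ⟨β, hβ, h⟩)]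
  refine himg.trans ?_
  rw [← Finset.prod_univ_sum]
  have hgeo : ∀ x : S, ∑ m ∈ Finset.range (M + 1), v x ^ m ≤ Real.exp (c * v x) := by
    intro x
    have h1 : v x < 1 := lt_of_le_of_lt (hv1 x) hlt
    have hinv : (1 - v x)⁻¹ ≤ c := inv_anti₀ (by linarith) (by linarith [hv1 x])
    calc ∑ m ∈ Finset.range (M + 1), v x ^ m ≤ (1 - v x)⁻¹ := by
          rw [← tsum_geometric_of_lt_one (hv0 x) h1]
          exact (summable_geometric_of_lt_one (hv0 x) h1).sum_le_tsum _ fun m _ => pow_nonneg (hv0 x) _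
      _ = 1 + v x * (1 - v x)⁻¹ := by
          have : 1 - v x ≠ 0 := by linarith
          field_simp
          ring
      _ ≤ c * v x + 1 := by rw [mul_comm c]; linarith [mul_le_mul_of_nonneg_left hinv (hv0 x)]
      _ ≤ Real.exp (c * v x) := Real.add_one_le_exp _
  refine (Finset.prod_le_prod (s := (Finset.univ : Finset S)) (fun x _ => Finset.sum_nonneg fun m _ => pow_nonneg (hv0 x) _) fun x _ => hgeo x).trans ?_
  rw [← Real.exp_sum, ← Finset.mul_sum]
  refine Real.exp_le_exp.mpr (mul_le_mul_of_nonneg_left ?_ hc0.le)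
  rw [Finset.sum_coe_sort S v]
  exact hsum.sum_le_tsum _ fun x _ => hv0 x

theorem finite_fiber (n : ℕ) : Finite {α : P →₀ ℕ // nm N α = n} := by
  rcases Nat.eq_zero_or_pos n with rfl | hn
  · haveI : IsEmpty {α : P →₀ ℕ // nm N α = 0} := ⟨fun α => (nm_pos h2 α.1).ne' α.2⟩
    infer_instance
  by_contra h
  rw [not_finite_iff_infinite] at h
  have h' := (summable_nm h2 hσ hsum).subtype {α : P →₀ ℕ | nm N α = n}
  have e : ((fun α : P →₀ ℕ => (nm N α : ℝ) ^ (-σ)) ∘ Subtype.val : {α : P →₀ ℕ | nm N α = n} → ℝ) =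
      fun _ => (n : ℝ) ^ (-σ) := funext fun α => by
    have : nm N α.1 = n := α.2
    simp [this]
  replace h' := (summable_congr fun α => congrFun e α).mp h'
  haveI : Infinite ({α : P →₀ ℕ | nm N α = n} : Set _) := h
  exact (Real.rpow_pos_of_pos (Nat.cast_pos.mpr hn) (-σ)).ne' (tendsto_const_nhds_iff.mp h'.tendsto_cofinite_zero)

variable {s : ℂ} (hs : σ ≤ s.re)
include hs

theorem summable_norm_cpow : Summable fun α : P →₀ ℕ => ‖(nm N α : ℂ) ^ (-s)‖ := by
  refine Summable.of_nonneg_of_le (fun _ => norm_nonneg _) (fun α => ?_) (summable_nm h2 hσ hsum)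
  rw [Complex.norm_natCast_cpow_of_pos (nm_pos h2 α), Complex.neg_re]
  exact Real.rpow_le_rpow_of_exponent_le (by exact_mod_cast nm_pos h2 α) (neg_le_neg hs)

theorem hasSum_term : HasSum (LSeries.term (cycleCoeff N) s) (∑' α : P →₀ ℕ, (nm N α : ℂ) ^ (-s)) := by
  have h := (summable_norm_cpow h2 hσ hsum hs).of_norm.hasSum
  refine ((Equiv.sigmaFiberEquiv (nm N)).hasSum_iff.mpr h).sigma fun n => ?_
  haveI := finite_fiber h2 hσ hsum n
  letI := Fintype.ofFinite {α : P →₀ ℕ // nm N α = n}
  have := hasSum_fintype fun α : {α : P →₀ ℕ // nm N α = n} => (nm N α.1 : ℂ) ^ (-s)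
  convert! this using 1
  rw [Finset.sum_congr rfl fun α _ => show (nm N α.1 : ℂ) ^ (-s) = (n : ℂ) ^ (-s) by rw [α.2],
    Finset.sum_const, Finset.card_univ, nsmul_eq_mul, ← Nat.card_eq_fintype_card, LSeries.term_def₀]
  · rfl
  · rw [cycleCoeff, Nat.cast_eq_zero]
    haveI : IsEmpty {α : P →₀ ℕ // nm N α = 0} := ⟨fun α => (nm_pos h2 α.1).ne' α.2⟩
    exact Nat.card_of_isEmpty

theorem lSeriesSummable_cycleCoeff : LSeriesSummable (cycleCoeff N) s :=
  (hasSum_term h2 hσ hsum hs).summable

theorem lSeries_cycleCoeff_ne_zero : LSeries (cycleCoeff N) s ≠ 0 := by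
  classical
  let μ : (P →₀ ℕ) → ℂ := fun β => if ∀ x, β x ≤ 1 then (-1) ^ β.support.card else 0
  have hμ : ∀ β, ‖μ β‖ ≤ 1 := fun β => by
    simp only [μ]
    split_ifs <;> simp
  have hA := summable_norm_cpow h2 hσ hsum hs
  have hB : Summable fun β : P →₀ ℕ => ‖μ β * (nm N β : ℂ) ^ (-s)‖ :=
    hA.of_nonneg_of_le (fun _ => norm_nonneg _) fun β => by
      rw [norm_mul]; exact mul_le_of_le_one_left (norm_nonneg _) (hμ β)
  have key : (∑' α : P →₀ ℕ, (nm N α : ℂ) ^ (-s)) * ∑' β : P →₀ ℕ, μ β * (nm N β : ℂ) ^ (-s) = 1 := by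
    rw [tsum_mul_tsum_of_summable_norm hA hB]
    have h := (summable_mul_of_summable_norm hA hB).hasSum
    have hf : HasSum (fun γ : P →₀ ℕ => if γ = 0 then (1 : ℂ) else 0) (∑' z : (P →₀ ℕ) × (P →₀ ℕ),
        (nm N z.1 : ℂ) ^ (-s) * (μ z.2 * (nm N z.2 : ℂ) ^ (-s))) := by
      refine ((Equiv.sigmaFiberEquiv fun z : (P →₀ ℕ) × (P →₀ ℕ) => z.1 + z.2).hasSum_iff.mpr h).sigma fun γ => ?_
      have hfib : {z : (P →₀ ℕ) × (P →₀ ℕ) | z.1 + z.2 = γ} = (Finset.antidiagonal γ : Set _) := by
        ext z; simp [Finset.mem_antidiagonal]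
      have hval : ∑ z ∈ Finset.antidiagonal γ,
          (nm N z.1 : ℂ) ^ (-s) * (μ z.2 * (nm N z.2 : ℂ) ^ (-s)) = if γ = 0 then 1 else 0 := by
        rw [Finset.sum_congr rfl fun z hz => show (nm N z.1 : ℂ) ^ (-s) * (μ z.2 * (nm N z.2 : ℂ) ^ (-s)) =
            (nm N γ : ℂ) ^ (-s) * μ z.2 by
          rw [← Finset.mem_antidiagonal.mp hz, nm_add, Nat.cast_mul, Complex.natCast_mul_natCast_cpow]
          ring]
        rw [← Finset.mul_sum]
        have hμsum : ∑ z ∈ Finset.antidiagonal γ, μ z.2 = ∑ T ∈ γ.support.powerset, (-1 : ℂ) ^ T.card := by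
          rw [← Finset.sum_filter_add_sum_filter_not (Finset.antidiagonal γ) fun z => ∀ x, z.2 x ≤ 1,
            Finset.sum_eq_zero (s := (Finset.antidiagonal γ).filter fun z => ¬ ∀ x, z.2 x ≤ 1)
              (fun z hz => show μ z.2 = 0 from if_neg (Finset.mem_filter.mp hz).2), add_zero]
          refine Finset.sum_nbij' (fun z => z.2.support)
            (fun T => (γ - Finsupp.indicator T (fun _ _ => 1), Finsupp.indicator T (fun _ _ => 1))) ?_ ?_ ?_ ?_ ?_
          · intro z hz
            rw [Finset.mem_filter, Finset.mem_antidiagonal] at hz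
            rw [Finset.mem_powerset, ← hz.1]
            intro x hx
            rw [Finsupp.mem_support_iff] at hx ⊢
            rw [Finsupp.add_apply]; omega
          · intro T hT
            rw [Finset.mem_powerset] at hT
            rw [Finset.mem_filter, Finset.mem_antidiagonal]
            refine ⟨?_, fun x => by simp [Finsupp.indicator_apply]; split <;> simp⟩
            ext x
            simp only [Finsupp.add_apply, Finsupp.tsub_apply, Finsupp.indicator_apply]
            split_ifs with hx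
            · have : γ x ≠ 0 := Finsupp.mem_support_iff.mp (hT hx)
              omega
            · simp
          · intro z hz
            rw [Finset.mem_filter, Finset.mem_antidiagonal] at hz
            have e : Finsupp.indicator z.2.support (fun _ _ => 1) = z.2 := by
              ext x
              have := hz.2 x
              by_cases hx : z.2 x = 0
              · simp [Finsupp.indicator_apply, hx]
              · simp [Finsupp.indicator_apply, hx]; omega
            simp only [e]
            rw [← hz.1, add_tsub_cancel_right]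
          · intro T _
            ext x
            simp [Finsupp.indicator_apply]
          · intro z hz
            exact if_pos (Finset.mem_filter.mp hz).2
        rw [hμsum]
        have := congrArg (fun n : ℤ => (n : ℂ)) (Finset.sum_powerset_neg_one_pow_card (x := γ.support))
        push_cast at this
        rw [this]
        rcases eq_or_ne γ 0 with rfl | hγ
        · simp [nm_zero]
        · simp [hγ, Finsupp.support_eq_empty]
      have hF := (Finset.antidiagonal γ).hasSum
        (fun z : (P →₀ ℕ) × (P →₀ ℕ) => (nm N z.1 : ℂ) ^ (-s) * (μ z.2 * (nm N z.2 : ℂ) ^ (-s)))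
      rw [hval] at hF
      exact (Equiv.setCongr hfib).hasSum_iff.mpr hF
    rw [← hf.tsum_eq, tsum_ite_eq]
  rw [show LSeries (cycleCoeff N) s = _ from (hasSum_term h2 hσ hsum hs).tsum_eq]
  intro h0
  rw [h0, zero_mul] at key
  exact zero_ne_one key

end Groth.Agent.Zeta25
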