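import Groth.Agent.Lib.Zeta25.PointBound
import Groth.Agent.Lib.Zeta25.ZeroCycle
import Groth.Agent.Lib.VarDim.Scheme
import Groth.Prelude.Def_W4c1zetahwZeta
import Mathlib.FieldTheory.Finite.GaloisField
import Mathlib.RingTheory.Finiteness.Basic
import Mathlib.Algebra.Field.ULift

/-!
Closed points of schemes of finite type over the integers, and the zeta function.
-/

namespace Groth.Agent.Zeta25

open AlgebraicGeometry CategoryTheory

universe u

variable {X : Scheme.{u}} (f : X ⟶ Spec (CommRingCat.of (ULift.{u} ℤ))) [LocallyOfFiniteType f]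

theorem finite_field_of_surjective {K : Type u} [Field K] {n : ℕ} (e : MvPolynomial (Fin n) ℤ →+* K)
    (he : Function.Surjective e) : Finite K := by
  haveI := int_jacobson
  haveI : Algebra.FiniteType ℤ K :=
    Algebra.FiniteType.iff_quotient_mvPolynomial''.mpr ⟨n, { e with commutes' := fun z => by simp }, he⟩
  haveI : Module.Finite ℤ K := finite_of_finite_type_of_isJacobsonRing ℤ K
  obtain ⟨p, hp⟩ := CharP.exists K
  rcases CharP.char_is_prime_or_zero K p with hp' | rfl
  · haveI : Fact p.Prime := ⟨hp'⟩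
    letI := ZMod.algebra K p
    haveI : IsScalarTower ℤ (ZMod p) K := IsScalarTower.of_algebraMap_eq' (RingHom.ext_int _ _)
    haveI : Module.Finite (ZMod p) K := Module.Finite.of_restrictScalars_finite ℤ (ZMod p) K
    exact Module.finite_of_finite (ZMod p)
  · exfalso
    haveI : CharZero K := CharP.charP_to_charZero K
    exact Int.not_isField (isField_of_isIntegral_of_isField
      (algebraMap ℤ K).injective_int (Field.toIsField K))

include f in
theorem finite_residueField {x : X} (hx : IsClosed ({x} : Set X)) : Finite (X.residueField x) := by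
  obtain ⟨U, hU, hxU, -⟩ := X.isBasis_affineOpens.exists_subset_of_mem_open (Set.mem_univ x) isOpen_univ
  obtain ⟨V, hV, rfl⟩ := hU
  obtain ⟨n, e, he⟩ := exists_surjective_sections f hV
  have hmax := hV.primeIdealOf_isMaximal_of_isClosed ⟨x, hxU⟩ hx
  refine finite_field_of_surjective ((X.evaluation V x hxU).hom.comp e) (Function.Surjective.comp (g := (X.evaluation V x hxU).hom) ?_ he)
  intro z
  obtain ⟨a, b, rfl⟩ := VarDim.exists_evaluation_eq_div hV x hxU z
  by_cases hb : X.evaluation V x hxU b = 0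
  · exact ⟨0, by rw [hb, div_zero, map_zero]⟩
  have hb' : b ∉ (hV.primeIdealOf ⟨x, hxU⟩).asIdeal := by
    rw [← VarDim.ker_evaluation hV x hxU]
    exact hb
  obtain ⟨c, i, hi, hci⟩ := hmax.exists_inv hb'
  refine ⟨a * c, ?_⟩
  rw [map_mul, eq_div_iff hb, mul_assoc, ← map_mul]
  have : X.evaluation V x hxU i = 0 := by
    rw [← VarDim.ker_evaluation hV x hxU] at hi
    exact hi
  have h1 := congrArg (X.evaluation V x hxU).hom hci
  rw [map_add, map_one] at h1
  erw [this, add_zero] at h1
  erw [h1, mul_one]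

theorem card_residueField_two_le {x : X} (f : X ⟶ Spec (CommRingCat.of (ULift.{u} ℤ))) [LocallyOfFiniteType f]
    (hx : IsClosed ({x} : Set X)) : 2 ≤ Nat.card (X.residueField x) := by
  haveI := finite_residueField f hx
  exact Finite.one_lt_card

variable (X) in
/-- The closed points. -/
abbrev Closed : Type u := {x : X // IsClosed ({x} : Set X)}

variable (X) in
/-- The norm of a closed point. -/
noncomputable abbrev ptNorm : Closed X → ℕ := fun x => Nat.card (X.residueField x.1)

variable [QuasiCompact f] {r : ℕ} (hr : topologicalKrullDim X ≤ r)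
include f hr

/-- Closed points of a given norm are few. -/
theorem exists_card_closed_le : ∃ c p₀ : ℕ, ∀ n : ℕ, Finite {x : Closed X // ptNorm X x = n} ∧
    (¬ IsPrimePow n → IsEmpty {x : Closed X // ptNorm X x = n}) ∧
    ∀ p m : ℕ, p.Prime → 1 ≤ m → n = p ^ m →
      Nat.card {x : Closed X // ptNorm X x = n} * (if p₀ ≤ p then n else 1) ≤ c * n ^ r := by
  obtain ⟨c, p₀, h⟩ := exists_card_hom_le f r hr
  refine ⟨c, p₀, fun n => ?_⟩
  have hempty : ¬ IsPrimePow n → IsEmpty {x : Closed X // ptNorm X x = n} := fun hn => ⟨fun x => by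
    haveI := finite_residueField f x.1.2
    letI := Fintype.ofFinite (X.residueField x.1.1)
    have := FiniteField.isPrimePow_card (X.residueField x.1.1)
    rw [← Nat.card_eq_fintype_card] at this
    exact hn (x.2 ▸ this)⟩
  have key : ∀ p m : ℕ, p.Prime → 1 ≤ m → n = p ^ m → Finite {x : Closed X // ptNorm X x = n} ∧
      Nat.card {x : Closed X // ptNorm X x = n} * (if p₀ ≤ p then n else 1) ≤ c * n ^ r := by
    intro p m hp hm hn
    haveI : Fact p.Prime := ⟨hp⟩
    let F : Type u := ULift.{u} (GaloisField p m)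
    have hF : Nat.card F = n := by
      rw [Nat.card_congr Equiv.ulift, GaloisField.card p m (by omega), hn]
    haveI : Finite F := Nat.finite_of_card_ne_zero (hF ▸ hn ▸ pow_ne_zero _ hp.ne_zero)
    obtain ⟨hfin, hb⟩ := h F
    have hch : ringChar F = p := by
      haveI : CharP F p := charP_of_injective_ringHom (f := (ULift.ringEquiv.{0, u} (R := GaloisField p m)).symm.toRingHom)
        (ULift.ringEquiv.{0, u} (R := GaloisField p m)).symm.injective p
      exact ringChar.eq F p
    rw [hch, hF] at hb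
    letI := Fintype.ofFinite F
    let θ : {x : Closed X // ptNorm X x = n} → (Spec (CommRingCat.of F) ⟶ X) := fun x =>
      haveI := finite_residueField f x.1.2
      letI := Fintype.ofFinite (X.residueField x.1.1)
      (Scheme.SpecToEquivOfField F X).symm ⟨x.1.1, CommRingCat.ofHom (FiniteField.ringEquivOfCardEq
        (by rw [← Nat.card_eq_fintype_card, ← Nat.card_eq_fintype_card, hF]; exact x.2) :
          X.residueField x.1.1 ≃+* F).toRingHom⟩
    have hθ : Function.Injective θ := fun x y e =>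
      Subtype.ext (Subtype.ext (congrArg Sigma.fst ((Scheme.SpecToEquivOfField F X).symm.injective e)))
    exact ⟨Finite.of_injective θ hθ,
      le_trans (Nat.mul_le_mul (Nat.card_le_card_of_injective θ hθ) le_rfl) hb⟩
  refine ⟨?_, hempty, fun p m hp hm hn => (key p m hp hm hn).2⟩
  by_cases hn : IsPrimePow n
  · obtain ⟨p, m, hp, hm, rfl⟩ := hn
    exact (key p m hp.nat_prime hm rfl).1
  · haveI := hempty hn
    infer_instance

theorem summable_ptNorm {σ : ℝ} (hσ : (r : ℝ) < σ) :
    Summable fun x : Closed X => (ptNorm X x : ℝ) ^ (-σ) := by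
  obtain ⟨c, p₀, h⟩ := exists_card_closed_le f hr
  rw [← (Equiv.sigmaFiberEquiv (ptNorm X)).summable_iff]
  refine (summable_sigma_of_nonneg fun x => Real.rpow_nonneg (Nat.cast_nonneg _) _).mpr ⟨fun n => ?_, ?_⟩
  · haveI := (h n).1
    exact Summable.of_finite
  let G : ℕ → ℝ := fun n => (c : ℝ) * (n : ℝ) ^ ((r : ℝ) - 1 - σ) +
    ∑ p ∈ (Finset.range p₀).filter Nat.Prime, (Set.range (p ^ ·)).indicator
      (fun n : ℕ => (c : ℝ) * (n : ℝ) ^ ((r : ℝ) - σ)) n
  have hG : Summable G := by
    refine ((Real.summable_nat_rpow.mpr (by linarith)).mul_left _).add (summable_sum fun p hp => ?_)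
    have hp2 := (Finset.mem_filter.mp hp).2
    rw [← Function.Injective.summable_iff (Nat.pow_right_injective hp2.two_le)
      (fun x hx => Set.indicator_of_notMem hx _)]
    have hlt : (p : ℝ) ^ ((r : ℝ) - σ) < 1 :=
      Real.rpow_lt_one_of_one_lt_of_neg (by exact_mod_cast hp2.one_lt) (by linarith)
    refine ((summable_geometric_of_lt_one (Real.rpow_nonneg (Nat.cast_nonneg _) _) hlt).mul_left (c : ℝ)).congr
      fun m => ?_
    simp only [Function.comp_apply]
    rw [Set.indicator_of_mem (by exact ⟨m, rfl⟩), Nat.cast_pow, ← Real.rpow_natCast, ← Real.rpow_natCast,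
      ← Real.rpow_mul (Nat.cast_nonneg _), ← Real.rpow_mul (Nat.cast_nonneg _), mul_comm ((r : ℝ) - σ)]
  refine hG.of_nonneg_of_le (fun n => tsum_nonneg fun x => Real.rpow_nonneg (Nat.cast_nonneg _) _) fun n => ?_
  obtain ⟨hfin, hempty, hb⟩ := h n
  haveI := hfin
  letI := Fintype.ofFinite {x : Closed X // ptNorm X x = n}
  rw [tsum_fintype, Finset.sum_congr rfl fun x _ =>
    show (ptNorm X (Equiv.sigmaFiberEquiv (ptNorm X) ⟨n, x⟩) : ℝ) ^ (-σ) = (n : ℝ) ^ (-σ) by
      rw [show ptNorm X (Equiv.sigmaFiberEquiv (ptNorm X) ⟨n, x⟩) = n from x.2],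
    Finset.sum_const, Finset.card_univ, nsmul_eq_mul, ← Nat.card_eq_fintype_card]
  have hG0 : ∀ q ∈ (Finset.range p₀).filter Nat.Prime, 0 ≤ (Set.range (q ^ ·)).indicator
      (fun n : ℕ => (c : ℝ) * (n : ℝ) ^ ((r : ℝ) - σ)) n := fun q _ =>
    Set.indicator_nonneg (fun _ _ => mul_nonneg (Nat.cast_nonneg _) (Real.rpow_nonneg (Nat.cast_nonneg _) _)) _
  by_cases hn : IsPrimePow n
  swap
  · haveI := hempty hn
    rw [Nat.card_of_isEmpty, Nat.cast_zero, zero_mul]
    exact add_nonneg (mul_nonneg (Nat.cast_nonneg _) (Real.rpow_nonneg (Nat.cast_nonneg _) _))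
      (Finset.sum_nonneg hG0)
  obtain ⟨p, m, hp, hm, rfl⟩ := hn
  have hb' := hb p m hp.nat_prime hm rfl
  have hpos : (0 : ℝ) < ((p ^ m : ℕ) : ℝ) := Nat.cast_pos.mpr (pow_pos hp.nat_prime.pos _)
  by_cases hpp : p₀ ≤ p
  · rw [if_pos hpp] at hb'
    have hb'' : (Nat.card {x : Closed X // ptNorm X x = p ^ m} : ℝ) * ((p ^ m : ℕ) : ℝ) ≤
        c * ((p ^ m : ℕ) : ℝ) ^ (r : ℝ) := by
      rw [Real.rpow_natCast]; exact_mod_cast hb'
    refine le_add_of_le_of_nonneg ?_ (Finset.sum_nonneg hG0)
    rw [show (r : ℝ) - 1 - σ = ((r : ℝ) - 1) + (-σ) by ring, Real.rpow_add hpos, ← mul_assoc]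
    refine mul_le_mul_of_nonneg_right ?_ (Real.rpow_nonneg hpos.le _)
    rw [Real.rpow_sub hpos, Real.rpow_one, ← mul_div_assoc, le_div_iff₀ hpos]
    exact hb''
  · rw [if_neg hpp, mul_one] at hb'
    have hmem : p ∈ (Finset.range p₀).filter Nat.Prime :=
      Finset.mem_filter.mpr ⟨Finset.mem_range.mpr (by omega), hp.nat_prime⟩
    refine le_add_of_nonneg_of_le (mul_nonneg (Nat.cast_nonneg _) (Real.rpow_nonneg hpos.le _)) ?_
    refine le_trans ?_ (Finset.single_le_sum hG0 hmem)
    rw [Set.indicator_of_mem (by exact ⟨m, rfl⟩), show (r : ℝ) - σ = (r : ℝ) + (-σ) by ring,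
      Real.rpow_add hpos, ← mul_assoc, Real.rpow_natCast]
    exact mul_le_mul_of_nonneg_right (by exact_mod_cast hb') (Real.rpow_nonneg hpos.le _)

omit [QuasiCompact f] hr in
theorem arithCoeff_eq : Zeta.arithCoeff X = cycleCoeff (ptNorm X) := by
  funext n
  rw [Zeta.arithCoeff, Zeta.cycleNormCount, cycleCoeff]
  congr 1
  refine Nat.card_congr ((Equiv.subtypeSubtypeEquivSubtypeInter
      (fun α : X →₀ ℕ => (α.support : Set X) ⊆ {x | IsClosed ({x} : Set X)})
      (fun α => (α.prod fun x m => Nat.card (X.residueField x) ^ m) = n)).symm.trans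
    ((Finsupp.restrictSupportEquiv {x : X | IsClosed ({x} : Set X)} ℕ).subtypeEquiv fun α => ?_))
  have e : nm (ptNorm X) ((Finsupp.restrictSupportEquiv {x : X | IsClosed ({x} : Set X)} ℕ) α) =
      α.1.prod fun x m => Nat.card (X.residueField x) ^ m :=
    Finsupp.prod_subtypeDomain_index (h := fun x m => Nat.card (X.residueField x) ^ m) fun x hx => α.2 hx
  constructor
  · intro h; exact e.trans h
  · intro h; exact e.symm.trans h

theorem lSeries_arith {s : ℂ} (hs : (r : ℝ) < s.re) :
    LSeriesSummable (Zeta.arithCoeff X) s ∧ LSeries (Zeta.arithCoeff X) s ≠ 0 := by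
  rw [arithCoeff_eq f]
  have hσ : (0 : ℝ) < s.re := lt_of_le_of_lt (Nat.cast_nonneg r) hs
  have h2 : ∀ x, 2 ≤ ptNorm X x := fun x => card_residueField_two_le f x.2
  exact ⟨lSeriesSummable_cycleCoeff h2 hσ (summable_ptNorm f hr hs) le_rfl,
    lSeries_cycleCoeff_ne_zero h2 hσ (summable_ptNorm f hr hs) le_rfl⟩

theorem abscissa_le_and_ne_zero :
    LSeries.abscissaOfAbsConv (Zeta.arithCoeff X) ≤ (r : ℝ) ∧
      ∀ s : ℂ, (r : ℝ) < s.re → LSeries (Zeta.arithCoeff X) s ≠ 0 :=
  ⟨LSeries.abscissaOfAbsConv_le_of_forall_lt_LSeriesSummable fun y hy =>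
      (lSeries_arith f hr (s := (y : ℂ)) (by simpa using hy)).1,
    fun _ hs => (lSeries_arith f hr hs).2⟩

end Groth.Agent.Zeta25
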