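import Groth.Agent.Lib.VarDim.Alg
import Mathlib.RingTheory.Jacobson.Ring
import Mathlib.Algebra.Algebra.Rat
import Mathlib.Algebra.CharP.Algebra
import Mathlib.Algebra.Algebra.ZMod
import Mathlib.RingTheory.PrincipalIdealDomain
import Mathlib.Algebra.Order.BigOperators.Group.Finset
import Mathlib.FieldTheory.Finite.Basic

/-!
Bounds for the number of points of a finitely generated ring with values in finite fields.
-/

namespace Groth.Agent.Zeta25

open Cardinal

universe u

/-- Homomorphisms into finite fields out of a finitely generated ring are few. -/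
def Good (A : Type) [CommRing A] (r : ℕ) : Prop :=
  ∃ c p₀ : ℕ, ∀ (F : Type u) [Field F] [Finite F],
    Nat.card (A →+* F) * (if p₀ ≤ ringChar F then Nat.card F else 1) ≤ c * Nat.card F ^ r

theorem int_jacobson : IsJacobsonRing ℤ := by
  rw [isJacobsonRing_iff_prime_eq]
  intro P hP
  by_cases h : P = ⊥
  · subst h
    refine le_antisymm ?_ Ideal.le_jacobson
    intro n hn
    rw [Ideal.mem_bot]
    rw [Ideal.mem_jacobson_bot] at hn
    rcases Int.isUnit_iff.1 (hn 3) with h1 | h1 <;> omega
  · exact Ideal.jacobson_eq_self_of_isMaximal (H := IsPrime.to_maximal_ideal h)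

theorem finite_hom {n : ℕ} {A : Type} [CommRing A] (f : MvPolynomial (Fin n) ℤ →+* A)
    (hf : Function.Surjective f) (F : Type u) [Field F] [Finite F] : Finite (A →+* F) :=
  Finite.of_injective (fun φ : A →+* F => fun i => φ (f (MvPolynomial.X i))) fun φ ψ h => by
    rw [← RingHom.cancel_right hf]
    exact MvPolynomial.ringHom_ext' (RingHom.ext_int _ _) fun i => congrFun h i

section Count

variable {R A : Type} [CommRing R] [CommRing A] [IsDomain A] [Algebra R A]
variable {n : ℕ} (x : Fin n → A)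

/-- A generic count: the points are parametrised by a maximal independent set of generators. -/
theorem exists_generic_bound (hinj : Function.Injective (algebraMap R A))
    (hgen : Algebra.adjoin R (Set.range x) = ⊤) :
    ∃ (s : Set (Fin n)) (g : A) (c : ℕ), AlgebraicIndepOn R x s ∧ g ≠ 0 ∧
      ∀ (F : Type u) [Field F] [Finite F] (_ : Subsingleton (R →+* F)),
        Nat.card {φ : A →+* F // φ g ≠ 0} ≤ c * Nat.card F ^ Nat.card s := by
  classical
  haveI : Nontrivial R := ⟨⟨0, 1, fun h => zero_ne_one (α := A) (by rw [← map_zero (algebraMap R A), h, map_one])⟩⟩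
  obtain ⟨s, hs, hmax⟩ : ∃ s : Set (Fin n), AlgebraicIndepOn R x s ∧
      ∀ j, j ∉ s → ¬ AlgebraicIndepOn R x (insert j s) := by
    have hempty : AlgebraicIndepOn R x (∅ : Set (Fin n)) :=
      algebraicIndependent_empty_type_iff.mpr hinj
    obtain ⟨s, hs⟩ := (Set.toFinite {s : Set (Fin n) | AlgebraicIndepOn R x s}).exists_maximal ⟨∅, hempty⟩
    exact ⟨s, hs.1, fun j hj h => hj (hs.le_of_ge h (Set.subset_insert j s) (Set.mem_insert j s))⟩
  have halg : ∀ j, j ∉ s → ∃ h : Polynomial (Algebra.adjoin R (x '' s)),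
      h ≠ 0 ∧ Polynomial.aeval (x j) h = 0 := by
    intro j hj
    by_contra h
    push Not at h
    exact hmax j hj ((AlgebraicIndepOn.insert_iff hj).mpr ⟨hs, fun ⟨p, hp, hp0⟩ => h p hp hp0⟩)
  let h : Fin n → Polynomial (Algebra.adjoin R (x '' s)) := fun j =>
    if hj : j ∈ s then 1 else (halg j hj).choose
  have h0 : ∀ j, h j ≠ 0 := fun j => by
    by_cases hj : j ∈ s
    · simp only [h, dif_pos hj]; exact one_ne_zero
    · simp only [h, dif_neg hj]; exact (halg j hj).choose_spec.1
  let g : A := ∏ j, ((h j).leadingCoeff : A)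
  refine ⟨s, g, ∏ j : {j // j ∉ s}, (h j).natDegree, hs, ?_, ?_⟩
  · exact Finset.prod_ne_zero_iff.mpr fun j _ => by
      simpa using Polynomial.leadingCoeff_ne_zero.mpr (h0 j)
  intro F _ _ hR
  haveI : Finite {φ : A →+* F // φ g ≠ 0} := by
    refine Finite.of_injective (fun φ : {φ : A →+* F // φ g ≠ 0} => fun i => φ.1 (x i)) fun φ ψ e => ?_
    refine Subtype.ext (RingHom.ext fun a => ?_)
    have ha : a ∈ Algebra.adjoin R (Set.range x) := hgen ▸ Algebra.mem_top
    induction ha using Algebra.adjoin_induction with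
    | mem b hb => obtain ⟨i, rfl⟩ := hb; exact congrFun e i
    | algebraMap r => exact RingHom.congr_fun (Subsingleton.elim (φ.1.comp (algebraMap R A))
        (ψ.1.comp (algebraMap R A))) r
    | add b c _ _ hb hc => rw [map_add, map_add, hb, hc]
    | mul b c _ _ hb hc => rw [map_mul, map_mul, hb, hc]
  letI := Fintype.ofFinite {φ : A →+* F // φ g ≠ 0}
  letI := Fintype.ofFinite F
  let res : {φ : A →+* F // φ g ≠ 0} → (s → F) := fun φ i => φ.1 (x i)
  have key : ∀ v : s → F, (Finset.univ.filter fun φ => res φ = v).card ≤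
      ∏ j : {j // j ∉ s}, (h j).natDegree := by
    intro v
    rcases Finset.eq_empty_or_nonempty (Finset.univ.filter fun φ => res φ = v) with he | ⟨φ₀, hφ₀⟩
    · simp [he]
    let ρ : Algebra.adjoin R (x '' s) →+* F := φ₀.1.comp (Algebra.adjoin R (x '' s)).val.toRingHom
    let roots : {j // j ∉ s} → Finset F := fun j => ((h j).map ρ).roots.toFinset
    refine (Finset.card_le_card_of_injOn (fun φ (j : {j // j ∉ s}) => φ.1 (x j))
      (t := Fintype.piFinset roots) ?_ ?_).trans ?_
    · intro φ hφ
      rw [Finset.mem_coe, Fintype.mem_piFinset]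
      intro j
      have hag : ∀ a : Algebra.adjoin R (x '' s), φ.1 a = φ₀.1 a := by
        rintro ⟨a, ha⟩
        induction ha using Algebra.adjoin_induction with
        | mem b hb =>
          obtain ⟨i, hi, rfl⟩ := hb
          have := (Finset.mem_filter.mp hφ).2.trans (Finset.mem_filter.mp hφ₀).2.symm
          exact congrFun this ⟨i, hi⟩
        | algebraMap r => exact RingHom.congr_fun (Subsingleton.elim (φ.1.comp (algebraMap R A))
            (φ₀.1.comp (algebraMap R A))) r
        | add b c _ _ hb hc => simp only [map_add, hb, hc]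
        | mul b c _ _ hb hc => simp only [map_mul, hb, hc]
      have hne : (h j.1).map ρ ≠ 0 := fun e => by
        have h2 : ρ (h j.1).leadingCoeff = 0 := by
          rw [Polynomial.leadingCoeff, ← Polynomial.coeff_map, e, Polynomial.coeff_zero]
        apply φ₀.2
        rw [map_prod]
        exact Finset.prod_eq_zero (Finset.mem_univ j.1) h2
      simp only [roots, Multiset.mem_toFinset, Polynomial.mem_roots hne, Polynomial.IsRoot,
        Polynomial.eval_map]
      have h1 : φ.1 (Polynomial.aeval (x j.1) (h j.1)) = 0 := by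
        simp only [h, dif_neg j.2]
        rw [(halg j.1 j.2).choose_spec.2, map_zero]
      rw [Polynomial.aeval_def, Polynomial.hom_eval₂] at h1
      rw [show ρ = φ.1.comp (algebraMap (Algebra.adjoin R (x '' s)) A) from
        RingHom.ext fun a => (hag a).symm]
      exact h1
    · intro φ hφ ψ hψ e
      refine Subtype.ext (RingHom.ext fun a => ?_)
      have ha : a ∈ Algebra.adjoin R (Set.range x) := hgen ▸ Algebra.mem_top
      induction ha using Algebra.adjoin_induction with
      | mem b hb =>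
        obtain ⟨i, rfl⟩ := hb
        by_cases hi : i ∈ s
        · exact congrFun ((Finset.mem_filter.mp hφ).2.trans (Finset.mem_filter.mp hψ).2.symm) ⟨i, hi⟩
        · exact congrFun e ⟨i, hi⟩
      | algebraMap r => exact RingHom.congr_fun (Subsingleton.elim (φ.1.comp (algebraMap R A))
          (ψ.1.comp (algebraMap R A))) r
      | add b c _ _ hb hc => rw [map_add, map_add, hb, hc]
      | mul b c _ _ hb hc => rw [map_mul, map_mul, hb, hc]
    · rw [Fintype.card_piFinset]
      exact Finset.prod_le_prod (fun _ _ => Nat.zero_le _) fun j _ =>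
        (Multiset.toFinset_card_le _).trans (Polynomial.card_roots_map_le_natDegree _)
  rw [Nat.card_eq_fintype_card, ← Nat.card_fun, Nat.card_eq_fintype_card, ← Finset.card_univ]
  refine (Finset.card_le_mul_card_image _ _ (fun v _ => key v)).trans (Nat.mul_le_mul le_rfl ?_)
  exact Finset.card_le_univ _

end Count

theorem card_indep_le_dim_of_charP {p : ℕ} [Fact p.Prime] {A : Type} [CommRing A] [IsDomain A]
    [Algebra (ZMod p) A] [Algebra.FiniteType (ZMod p) A] {n : ℕ} {x : Fin n → A} {s : Set (Fin n)}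
    (hs : AlgebraicIndepOn (ZMod p) x s) {r : ℕ} (hr : ringKrullDim A ≤ r) : Nat.card s ≤ r := by
  rw [VarDim.ringKrullDim_eq_tdeg (ZMod p) A] at hr
  have h := AlgebraicIndependent.cardinalMk_le_trdeg hs
  rw [VarDim.trdeg_eq_tdeg (ZMod p) A] at h
  have h' : Nat.card s ≤ VarDim.tdeg (ZMod p) A := by
    rw [Nat.card]
    exact_mod_cast Cardinal.toNat_le_toNat h (Cardinal.natCast_lt_aleph0)
  exact h'.trans (by exact_mod_cast hr)

theorem card_indep_lt_dim_of_charZero {A : Type} [CommRing A] [IsDomain A] [CharZero A] {n : ℕ}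
    {x : Fin n → A} (hgen : Algebra.adjoin ℤ (Set.range x) = ⊤) {s : Set (Fin n)}
    (hs : AlgebraicIndepOn ℤ x s) {r : ℕ} (hr : ringKrullDim A ≤ r) : Nat.card s + 1 ≤ r := by
  classical
  let K := FractionRing A
  haveI : CharZero K := charZero_of_injective_algebraMap (IsFractionRing.injective A K)
  let B : Subalgebra ℚ K := Algebra.adjoin ℚ (Set.range fun i => algebraMap A K (x i))
  haveI : Algebra.FiniteType ℚ B :=
    (Subalgebra.fg_iff_finiteType _).mp (Subalgebra.fg_def.mpr ⟨_, Set.finite_range _, rfl⟩)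
  have hA : ∀ a : A, algebraMap A K a ∈ B := fun a => by
    have ha : a ∈ Algebra.adjoin ℤ (Set.range x) := hgen ▸ Algebra.mem_top
    induction ha using Algebra.adjoin_induction with
    | mem b hb => obtain ⟨i, rfl⟩ := hb; exact Algebra.subset_adjoin ⟨i, rfl⟩
    | algebraMap r => simp
    | add b c _ _ hb hc => rw [map_add]; exact add_mem hb hc
    | mul b c _ _ hb hc => rw [map_mul]; exact mul_mem hb hc
  let ι : A →+* B := (algebraMap A K).codRestrict B hA
  have hι : Function.Injective ι := fun a b h => IsFractionRing.injective A K (congrArg Subtype.val h)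
  have hden : ∀ b : B, ∃ (a : A) (m : ℕ), m ≠ 0 ∧ (m : B) * b = ι a := by
    rintro ⟨b, hb⟩
    induction hb using Algebra.adjoin_induction with
    | mem b hb => obtain ⟨i, rfl⟩ := hb; exact ⟨x i, 1, one_ne_zero, Subtype.ext (by simp [ι])⟩
    | algebraMap q =>
      refine ⟨(q.num : A), q.den, q.den_nz, Subtype.ext ?_⟩
      simp only [MulMemClass.coe_mul, eq_ratCast, map_intCast, SubringClass.coe_intCast]
      have := Rat.den_mul_eq_num q
      calc (q.den : K) * (q : K) = (((q.den : ℚ) * q : ℚ) : K) := by push_cast; ring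
        _ = _ := by rw [this]; push_cast; ring
    | add b c hb' hc' hb hc =>
      obtain ⟨a, m, hm, ha⟩ := hb
      obtain ⟨a', m', hm', ha'⟩ := hc
      refine ⟨(m' : A) * a + (m : A) * a', m * m', Nat.mul_ne_zero hm hm', ?_⟩
      rw [show (⟨b + c, _⟩ : B) = ⟨b, hb'⟩ + ⟨c, hc'⟩ from rfl, map_add, map_mul, map_mul, ← ha, ← ha',
        map_natCast, map_natCast]
      push_cast
      ring
    | mul b c hb' hc' hb hc =>
      obtain ⟨a, m, hm, ha⟩ := hb
      obtain ⟨a', m', hm', ha'⟩ := hc
      refine ⟨a * a', m * m', Nat.mul_ne_zero hm hm', ?_⟩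
      rw [show (⟨b * c, _⟩ : B) = ⟨b, hb'⟩ * ⟨c, hc'⟩ from rfl, map_mul, ← ha, ← ha']
      push_cast
      ring
  have hmono : StrictMono (PrimeSpectrum.comap ι) := by
    intro P Q hPQ
    obtain ⟨b, hbQ, hbP⟩ := SetLike.exists_of_lt (show P.asIdeal < Q.asIdeal from hPQ)
    obtain ⟨a, m, hm, ha⟩ := hden b
    refine lt_of_le_of_ne (Ideal.comap_mono (le_of_lt hPQ)) fun e => ?_
    have haQ : a ∈ (PrimeSpectrum.comap ι Q).asIdeal := by
      show ι a ∈ Q.asIdeal
      rw [← ha]
      exact Q.asIdeal.mul_mem_left _ hbQ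
    rw [← e] at haQ
    change ι a ∈ P.asIdeal at haQ
    rw [← ha] at haQ
    have hu : IsUnit (m : B) := by
      rw [← map_natCast (algebraMap ℚ B)]
      exact ((Nat.cast_ne_zero (R := ℚ)).mpr hm).isUnit.map _
    exact hbP ((P.isPrime.mem_or_mem haQ).resolve_left fun h => P.isPrime.ne_top (Ideal.eq_top_of_isUnit_mem _ h hu))
  have hchain : ∀ l : LTSeries (PrimeSpectrum B), ((l.length + 1 : ℕ) : WithBot ℕ∞) ≤ ringKrullDim A := by
    intro l
    let Q := PrimeSpectrum.comap ι l.last
    obtain ⟨M, hM, hQM⟩ := Ideal.exists_le_maximal Q.asIdeal Q.isPrime.ne_top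
    have hne : Q.asIdeal ≠ M := by
      intro e
      haveI := hM
      letI := Ideal.Quotient.field M
      haveI : Algebra.FiniteType ℤ A := ⟨Subalgebra.fg_def.mpr ⟨_, Set.finite_range x, hgen⟩⟩
      haveI := int_jacobson
      haveI : Module.Finite ℤ (A ⧸ M) := finite_of_finite_type_of_isJacobsonRing ℤ (A ⧸ M)
      have hinj : ¬ Function.Injective (algebraMap ℤ (A ⧸ M)) := fun h =>
        Int.not_isField (isField_of_isIntegral_of_isField h (Field.toIsField _))
      rw [injective_iff_map_eq_zero] at hinj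
      push Not at hinj
      obtain ⟨z, hz, hz0⟩ := hinj
      rw [eq_intCast, ← map_intCast (Ideal.Quotient.mk M), Ideal.Quotient.eq_zero_iff_mem, ← e] at hz
      change ι (z : A) ∈ l.last.asIdeal at hz
      rw [map_intCast, ← map_intCast (algebraMap ℚ B)] at hz
      exact l.last.isPrime.ne_top (Ideal.eq_top_of_isUnit_mem _ hz (((Int.cast_ne_zero (α := ℚ)).mpr hz0).isUnit.map _))
    have hlt : (l.map _ hmono).last < ⟨M, hM.isPrime⟩ := by
      rw [LTSeries.last_map]
      exact lt_of_le_of_ne hQM fun e => hne (congrArg PrimeSpectrum.asIdeal e)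
    have := Order.LTSeries.length_le_krullDim ((l.map _ hmono).snoc _ hlt)
    simpa [ringKrullDim] using this
  have hnc : (VarDim.tdeg ℚ B : ℕ) + 1 ≤ r := by
    have hd := VarDim.ringKrullDim_eq_tdeg ℚ B
    haveI : FiniteDimensionalOrder (PrimeSpectrum B) :=
      Order.finiteDimensionalOrder_iff_krullDim_ne_bot_and_top.mpr
        ⟨fun e => by simp [ringKrullDim, e] at hd, fun e => by
          rw [ringKrullDim, e] at hd
          exact ENat.coe_ne_top _ (WithBot.coe_inj.mp hd.symm)⟩
    have h1 := hchain (LTSeries.longestOf _)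
    have h2 : ((LTSeries.longestOf (PrimeSpectrum B)).length : WithBot ℕ∞) = (VarDim.tdeg ℚ B : ℕ) :=
      (Order.krullDim_eq_length_of_finiteDimensionalOrder (α := PrimeSpectrum B)).symm.trans hd
    rw [show (LTSeries.longestOf (PrimeSpectrum B)).length = VarDim.tdeg ℚ B by exact_mod_cast h2] at h1
    exact_mod_cast h1.trans hr
  refine le_trans (Nat.add_le_add_right ?_ 1) hnc
  let ιℤ : A →ₐ[ℤ] B := ι.toIntAlgHom
  have h := AlgebraicIndependent.cardinalMk_le_trdeg (AlgebraicIndependent.map' hs (f := ιℤ) hι)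
  haveI : Algebra.IsAlgebraic ℤ ℚ := IsLocalization.isAlgebraic ℚ (nonZeroDivisors ℤ)
  rw [← trdeg_add_eq ℤ ℚ, trdeg_eq_zero, zero_add, VarDim.trdeg_eq_tdeg ℚ B] at h
  rw [Nat.card]
  exact_mod_cast Cardinal.toNat_le_toNat h Cardinal.natCast_lt_aleph0

theorem mul_factor_le {F : Type u} [Field F] [Finite F] (a : ℕ) (p₀ : ℕ) :
    a * (if p₀ ≤ ringChar F then Nat.card F else 1) ≤ a * Nat.card F :=
  Nat.mul_le_mul le_rfl (by split <;> [exact le_rfl; exact Nat.card_pos])

/-- The uniform bound, by noetherian induction on the defining ideal. -/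
theorem good_quotient {n : ℕ} (I : Ideal (MvPolynomial (Fin n) ℤ)) (r : ℕ)
    (hr : ringKrullDim (MvPolynomial (Fin n) ℤ ⧸ I) ≤ r) : Good.{u} (MvPolynomial (Fin n) ℤ ⧸ I) r := by
  classical
  induction I using IsNoetherian.induction with
  | _ I ih =>
  have step : ∀ J, I < J → Good.{u} (MvPolynomial (Fin n) ℤ ⧸ J) r := fun J hJ =>
    ih J hJ ((ringKrullDim_le_of_surjective (Ideal.Quotient.factor hJ.le)
      (Ideal.Quotient.factor_surjective hJ.le)).trans hr)
  by_cases htop : I = ⊤
  · refine ⟨0, 0, fun F _ _ => ?_⟩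
    haveI : IsEmpty (MvPolynomial (Fin n) ℤ ⧸ I →+* F) := ⟨fun φ => by
      haveI : Subsingleton (MvPolynomial (Fin n) ℤ ⧸ I) := Ideal.Quotient.subsingleton_iff.mpr htop
      exact one_ne_zero ((map_one φ).symm.trans ((congrArg φ (Subsingleton.elim 1 0)).trans (map_zero φ)))⟩
    simp
  by_cases hI : Ideal.IsPrime I
  swap
  · obtain ⟨a, b, hab, ha, hb⟩ : ∃ a b, a * b ∈ I ∧ a ∉ I ∧ b ∉ I := by
      by_contra h
      push Not at h
      exact hI ⟨htop, fun {a b} hab => or_iff_not_imp_left.mpr (h a b hab)⟩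
    obtain ⟨c₁, p₁, h₁⟩ := step (I ⊔ Ideal.span {a}) (by simpa using ha)
    obtain ⟨c₂, p₂, h₂⟩ := step (I ⊔ Ideal.span {b}) (by simpa using hb)
    refine ⟨c₁ + c₂, max p₁ p₂, fun F _ _ => ?_⟩
    haveI := finite_hom _ (Ideal.Quotient.mk_surjective (I := I ⊔ Ideal.span {a})) F
    haveI := finite_hom _ (Ideal.Quotient.mk_surjective (I := I ⊔ Ideal.span {b})) F
    have hle : Nat.card (MvPolynomial (Fin n) ℤ ⧸ I →+* F) ≤
        Nat.card (MvPolynomial (Fin n) ℤ ⧸ (I ⊔ Ideal.span {a}) →+* F) +
          Nat.card (MvPolynomial (Fin n) ℤ ⧸ (I ⊔ Ideal.span {b}) →+* F) := by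
      rw [← Nat.card_sum]
      have key : ∀ (φ : MvPolynomial (Fin n) ℤ ⧸ I →+* F) (c : MvPolynomial (Fin n) ℤ),
          φ (Ideal.Quotient.mk I c) = 0 → ∀ y ∈ I ⊔ Ideal.span {c}, φ.comp (Ideal.Quotient.mk I) y = 0 := by
        intro φ c hc y hy
        have : I ⊔ Ideal.span {c} ≤ RingHom.ker (φ.comp (Ideal.Quotient.mk I)) :=
          sup_le (fun z hz => by simp [Ideal.Quotient.eq_zero_iff_mem.mpr hz])
            ((Ideal.span_singleton_le_iff_mem _).mpr (by simpa using hc))
        exact this hy
      refine Nat.card_le_card_of_injective (fun φ => if hφ : φ (Ideal.Quotient.mk I a) = 0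
        then Sum.inl (Ideal.Quotient.lift _ _ (key φ a hφ))
        else Sum.inr (Ideal.Quotient.lift _ _ (key φ b (by
          have : φ (Ideal.Quotient.mk I a) * φ (Ideal.Quotient.mk I b) = 0 := by
            rw [← map_mul, ← map_mul, Ideal.Quotient.eq_zero_iff_mem.mpr hab, map_zero]
          exact (mul_eq_zero.mp this).resolve_left hφ)))) ?_
      intro φ ψ e
      dsimp only at e
      split_ifs at e
      · exact Ideal.Quotient.ringHom_ext (RingHom.ext fun y => by
          simpa using RingHom.congr_fun (Sum.inl.inj e) (Ideal.Quotient.mk _ y))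
      · exact Ideal.Quotient.ringHom_ext (RingHom.ext fun y => by
          simpa using RingHom.congr_fun (Sum.inr.inj e) (Ideal.Quotient.mk _ y))
    refine le_trans (Nat.mul_le_mul hle le_rfl) ?_
    rw [add_mul, add_mul]
    refine Nat.add_le_add (le_trans (Nat.mul_le_mul le_rfl ?_) (h₁ F)) (le_trans (Nat.mul_le_mul le_rfl ?_) (h₂ F))
    all_goals
      split_ifs with u1 u2
      · exact le_rfl
      · exact absurd (by omega) u2
      · exact Nat.card_pos
      · exact le_rfl
  haveI := hI
  let A := MvPolynomial (Fin n) ℤ ⧸ I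
  haveI : IsDomain A := Ideal.Quotient.isDomain I
  let x : Fin n → A := fun i => Ideal.Quotient.mk I (MvPolynomial.X i)
  have hgen : ∀ (R : Type) [CommRing R] [Algebra R A], Algebra.adjoin R (Set.range x) = ⊤ := by
    intro R _ _
    rw [eq_top_iff]
    rintro a -
    obtain ⟨a, rfl⟩ := Ideal.Quotient.mk_surjective a
    induction a using MvPolynomial.induction_on with
    | C z => simp
    | add p q hp hq => rw [map_add]; exact add_mem hp hq
    | mul_X p i hp => rw [map_mul]; exact mul_mem hp (Algebra.subset_adjoin ⟨i, rfl⟩)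
  -- combine the generic bound with the bound on the bad locus
  have combine : ∀ (g : A) (c p' : ℕ), g ≠ 0 →
      (∀ (F : Type u) [Field F] [Finite F],
        Nat.card {φ : A →+* F // φ g ≠ 0} * (if p' ≤ ringChar F then Nat.card F else 1) ≤ c * Nat.card F ^ r) →
      Good.{u} A r := by
    intro g c p' hg hc
    obtain ⟨g, rfl⟩ := Ideal.Quotient.mk_surjective g
    obtain ⟨c₁, p₁, h₁⟩ := step (I ⊔ Ideal.span {g}) (by simpa [← Ideal.Quotient.eq_zero_iff_mem] using hg)
    refine ⟨c + c₁, max p' p₁, fun F _ _ => ?_⟩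
    haveI := finite_hom _ (Ideal.Quotient.mk_surjective (I := I)) F
    haveI := finite_hom _ (Ideal.Quotient.mk_surjective (I := I ⊔ Ideal.span {g})) F
    have hle : Nat.card (A →+* F) ≤ Nat.card {φ : A →+* F // φ (Ideal.Quotient.mk I g) ≠ 0} +
        Nat.card (MvPolynomial (Fin n) ℤ ⧸ (I ⊔ Ideal.span {g}) →+* F) := by
      rw [← Nat.card_sum]
      refine Nat.card_le_card_of_injective (fun φ => if hφ : φ (Ideal.Quotient.mk I g) ≠ 0
        then Sum.inl ⟨φ, hφ⟩
        else Sum.inr (Ideal.Quotient.lift _ (φ.comp (Ideal.Quotient.mk I)) fun y hy => by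
          have hle' : I ⊔ Ideal.span {g} ≤ RingHom.ker (φ.comp (Ideal.Quotient.mk I)) :=
            sup_le (fun z hz => by simp [Ideal.Quotient.eq_zero_iff_mem.mpr hz])
              ((Ideal.span_singleton_le_iff_mem _).mpr (by simpa using not_not.mp hφ))
          exact hle' hy)) ?_
      intro φ ψ e
      dsimp only at e
      split_ifs at e
      · exact congrArg Subtype.val (Sum.inl.inj e)
      · exact Ideal.Quotient.ringHom_ext (RingHom.ext fun y => by
          simpa using RingHom.congr_fun (Sum.inr.inj e) (Ideal.Quotient.mk _ y))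
    refine le_trans (Nat.mul_le_mul hle le_rfl) ?_
    rw [add_mul, add_mul]
    refine Nat.add_le_add (le_trans (Nat.mul_le_mul le_rfl ?_) (hc F)) (le_trans (Nat.mul_le_mul le_rfl ?_) (h₁ F))
    all_goals
      split_ifs with u1 u2
      · exact le_rfl
      · exact absurd (by omega) u2
      · exact Nat.card_pos
      · exact le_rfl
  rcases CharP.exists' A with h0 | ⟨p, hp, hpA⟩
  · obtain ⟨s, g, c, hs, hg, hc⟩ := exists_generic_bound.{u} (R := ℤ) x
      (algebraMap ℤ A).injective_int (hgen ℤ)
    have hsr := card_indep_lt_dim_of_charZero (hgen ℤ) hs hr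
    refine combine g c 0 hg fun F _ _ => ?_
    refine (mul_factor_le _ _).trans ((Nat.mul_le_mul (hc F inferInstance) le_rfl).trans ?_)
    rw [mul_assoc, ← pow_succ]
    exact Nat.mul_le_mul le_rfl (Nat.pow_le_pow_right Nat.card_pos hsr)
  · letI : Algebra (ZMod p) A := ZMod.algebra A p
    haveI : Algebra.FiniteType (ZMod p) A := ⟨Subalgebra.fg_def.mpr ⟨_, Set.finite_range x, hgen (ZMod p)⟩⟩
    obtain ⟨s, g, c, hs, hg, hc⟩ := exists_generic_bound.{u} (R := ZMod p) x
      (algebraMap (ZMod p) A).injective (hgen (ZMod p))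
    refine combine g c (p + 1) hg fun F _ _ => ?_
    rcases isEmpty_or_nonempty {φ : A →+* F // φ g ≠ 0} with he | ⟨⟨φ, -⟩⟩
    · simp
    haveI : CharP F p := by
      obtain ⟨q, hq⟩ := CharP.exists F
      have h1 : (p : F) = 0 := by rw [← map_natCast φ, CharP.cast_eq_zero, map_zero]
      have h2 := (CharP.cast_eq_zero_iff F q p).mp h1
      rcases hp.out.eq_one_or_self_of_dvd q h2 with rfl | rfl
      · exact absurd rfl (CharP.char_ne_one F 1)
      · exact hq
    rw [ringChar.eq F p, if_neg (by omega), mul_one]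
    exact (hc F inferInstance).trans (Nat.mul_le_mul le_rfl
      (Nat.pow_le_pow_right Nat.card_pos (card_indep_le_dim_of_charP hs hr)))

end Groth.Agent.Zeta25
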