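import Groth.Agent.Lib.Zeta25.PointBoundAlg
import Mathlib.AlgebraicGeometry.Morphisms.FiniteType
import Mathlib.AlgebraicGeometry.Morphisms.QuasiCompact
import Mathlib.Topology.KrullDimension

/-!
Bounds for the number of points of a scheme of finite type over the integers with values in finite fields.
-/

namespace Groth.Agent.Zeta25

open AlgebraicGeometry CategoryTheory

universe u

variable {X : Scheme.{u}} (f : X ⟶ Spec (CommRingCat.of (ULift.{u} ℤ))) [LocallyOfFiniteType f]

include f in
theorem exists_surjective_sections {U : X.Opens} (hU : IsAffineOpen U) :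
    ∃ (n : ℕ) (e : MvPolynomial (Fin n) ℤ →+* Γ(X, U)), Function.Surjective e := by
  have h : (f.appLE ⊤ U (by simp)).hom.FiniteType := f.finiteType_appLE (isAffineOpen_top _) hU _
  let j : ℤ →+* Γ(Spec (CommRingCat.of (ULift.{u} ℤ)), ⊤) :=
    (Scheme.ΓSpecIso (CommRingCat.of (ULift.{u} ℤ))).inv.hom.comp ULift.ringEquiv.symm.toRingHom
  have hj : Function.Surjective j :=
    (Scheme.ΓSpecIso (CommRingCat.of (ULift.{u} ℤ))).symm.commRingCatIsoToRingEquiv.surjective.comp
      ULift.ringEquiv.symm.surjective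
  have h2 := h.comp (RingHom.FiniteType.of_surjective j hj)
  rw [Subsingleton.elim ((f.appLE ⊤ U (by simp)).hom.comp j) (algebraMap ℤ Γ(X, U)),
    RingHom.finiteType_algebraMap] at h2
  obtain ⟨n, e, he⟩ := Algebra.FiniteType.iff_quotient_mvPolynomial''.mp h2
  exact ⟨n, e.toRingHom, he⟩

theorem ringKrullDim_sections_le {U : X.Opens} (hU : IsAffineOpen U) :
    ringKrullDim Γ(X, U) ≤ topologicalKrullDim X := by
  rw [← PrimeSpectrum.topologicalKrullDim_eq_ringKrullDim]
  exact hU.fromSpec.isOpenEmbedding.isInducing.topologicalKrullDim_le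

/-- Points with values in finite fields: at most `c q ^ r`, and `c q ^ (r - 1)` in large characteristic. -/
theorem exists_card_hom_le [QuasiCompact f] (r : ℕ) (hr : topologicalKrullDim X ≤ r) :
    ∃ c p₀ : ℕ, ∀ (F : Type u) [Field F] [Finite F],
      Finite (Spec (CommRingCat.of F) ⟶ X) ∧
      Nat.card (Spec (CommRingCat.of F) ⟶ X) * (if p₀ ≤ ringChar F then Nat.card F else 1) ≤
        c * Nat.card F ^ r := by
  classical
  haveI : CompactSpace X := (HasAffineProperty.iff_of_isAffine (P := @QuasiCompact) (f := f)).mp inferInstance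
  obtain ⟨t, ht⟩ := isCompact_univ.elim_finite_subcover (fun U : X.affineOpens => ((U : X.Opens) : Set X))
    (fun U => U.1.2) (fun x _ => by
      obtain ⟨U, hU, hxU, -⟩ :=
        X.isBasis_affineOpens.exists_subset_of_mem_open (Set.mem_univ x) isOpen_univ
      obtain ⟨V, hV, rfl⟩ := hU
      exact Set.mem_iUnion.mpr ⟨⟨V, hV⟩, hxU⟩)
  choose n e he using fun U : t => exists_surjective_sections f U.1.2
  have hgood : ∀ U : t, Good.{u} (MvPolynomial (Fin (n U)) ℤ ⧸ RingHom.ker (e U)) r := fun U =>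
    good_quotient _ r (le_trans
      ((ringKrullDim_eq_of_ringEquiv (RingHom.quotientKerEquivOfSurjective (he U))).le.trans
        (ringKrullDim_sections_le U.1.2)) hr)
  choose c p hc using hgood
  refine ⟨∑ U, c U, Finset.univ.sup p, fun F _ _ => ?_⟩
  haveI : ∀ U : t, Finite (MvPolynomial (Fin (n U)) ℤ ⧸ RingHom.ker (e U) →+* F) := fun U =>
    finite_hom _ Ideal.Quotient.mk_surjective F
  let E := fun U : t => RingHom.quotientKerEquivOfSurjective (he U)
  let Θ : (Σ U : t, MvPolynomial (Fin (n U)) ℤ ⧸ RingHom.ker (e U) →+* F) →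
      (Spec (CommRingCat.of F) ⟶ X) := fun s =>
    Spec.map (CommRingCat.ofHom (s.2.comp (E s.1).symm.toRingHom)) ≫ s.1.1.2.fromSpec
  have hΘ : Function.Surjective Θ := by
    intro g
    obtain ⟨U, hU⟩ := Set.mem_iUnion.mp (ht (Set.mem_univ (g.base default)))
    obtain ⟨hUt, hxU⟩ := Set.mem_iUnion.mp hU
    have hrange : Set.range g.base ⊆ Set.range U.2.fromSpec.base := by
      rw [U.2.range_fromSpec]
      rintro _ ⟨z, rfl⟩
      rw [Subsingleton.elim z default]
      exact hxU
    let l := IsOpenImmersion.lift U.2.fromSpec g hrange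
    refine ⟨⟨⟨U, hUt⟩, (Spec.preimage l).hom.comp (E ⟨U, hUt⟩).toRingHom⟩, ?_⟩
    simp only [Θ]
    rw [RingHom.comp_assoc, RingEquiv.toRingHom_eq_coe, RingEquiv.toRingHom_eq_coe,
      RingEquiv.comp_symm, RingHom.comp_id, CommRingCat.ofHom_hom, Spec.map_preimage]
    exact IsOpenImmersion.lift_fac _ _ _
  refine ⟨Finite.of_surjective Θ hΘ, ?_⟩
  refine (Nat.mul_le_mul (Nat.card_le_card_of_surjective Θ hΘ) le_rfl).trans ?_
  rw [Nat.card_sigma, Finset.sum_mul, Finset.sum_mul]
  refine Finset.sum_le_sum fun U _ => le_trans (Nat.mul_le_mul le_rfl ?_) (hc U F)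
  split_ifs with h1 h2
  · exact le_rfl
  · exact absurd ((Finset.le_sup (Finset.mem_univ U)).trans h1) h2
  · exact Nat.card_pos
  · exact le_rfl

end Groth.Agent.Zeta25
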