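import Groth.Agent.Lib.Zeta25.FrobPoints

/-!
The fixed-point scheme of the geometric Frobenius is reduced and finite.
-/

namespace Groth.Agent.Zeta25.Geom

open AlgebraicGeometry CategoryTheory Limits

universe u

theorem mem_range_of_pow_card_eq (k : Type u) [Field k] [Finite k] (L : Type u) [Field L] [Algebra k L]
    (c : L) (hc : c ^ Nat.card k = c) : c ∈ (algebraMap k L).range := by
  classical
  letI := Fintype.ofFinite k
  rw [Nat.card_eq_fintype_card] at hc
  have hq : 1 < Fintype.card k := Fintype.one_lt_card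
  let p : Polynomial L := Polynomial.X ^ Fintype.card k - Polynomial.X
  have hp : p ≠ 0 := FiniteField.X_pow_card_sub_X_ne_zero L hq
  have hdeg : p.natDegree = Fintype.card k := FiniteField.X_pow_card_sub_X_natDegree_eq L hq
  have hsub : Finset.univ.image (algebraMap k L) ⊆ p.roots.toFinset := by
    intro z hz
    obtain ⟨a, -, rfl⟩ := Finset.mem_image.mp hz
    simp [p, Polynomial.mem_roots', hp, ← map_pow, FiniteField.pow_card, p]
  have hle : p.roots.toFinset.card ≤ (Finset.univ.image (algebraMap k L)).card := by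
    rw [Finset.card_image_of_injective _ (algebraMap k L).injective, Finset.card_univ, ← hdeg]
    exact (Multiset.toFinset_card_le _).trans (Polynomial.card_roots' p)
  have hmem : c ∈ p.roots.toFinset := by
    simp [Multiset.mem_toFinset, Polynomial.mem_roots', p, hc]
    exact hp
  rw [← Finset.eq_of_subset_of_card_le hsub hle] at hmem
  obtain ⟨a, -, rfl⟩ := Finset.mem_image.mp hmem
  exact ⟨a, rfl⟩

variable {k : Type u} [Field k] [Finite k] {X : Scheme.{u}} {f : X ⟶ Spec (CommRingCat.of k)}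
  [LocallyOfFiniteType f]
  (FX : X ⟶ X) (hle : ∀ U : X.Opens, U ≤ FX ⁻¹ᵁ U)
  (hFapp : ∀ (U : X.Opens) (s : Γ(X, U)), (FX.appLE U U (hle U)).hom s = s ^ Nat.card k)
  (F : Xb f ⟶ Xb f) (hF1 : F ≫ π f = π f ≫ FX) (hF2 : F ≫ str f = str f)
  {Z : Scheme.{u}} (j : Z ⟶ Xb f) [Mono j] [LocallyOfFiniteType j] (hj : j ≫ F = j)

include hFapp hF1 hF2 hj

/-- The local ring at a closed fixed point is reduced and has no further generalisation. -/
theorem fix_closed {z : Z} (hz : IsClosed ({z} : Set Z)) :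
    _root_.IsReduced (Z.presheaf.stalk z) ∧ ∀ y : Z, y ⤳ z → y = z := by
  let R := Z.presheaf.stalk z
  let r : R ⟶ CommRingCat.of (AlgebraicClosure k) := Z.residue z ≫ (residueFieldIsoBase (j ≫ str f) z hz).hom
  let g : Spec R ⟶ Xb f := Z.fromSpecStalk z ≫ j
  have hp : Spec.map r ≫ Z.fromSpecStalk z = pointOfClosedPoint (j ≫ str f) z hz := by
    rw [Spec.map_comp, Category.assoc]
    rfl
  obtain ⟨U, hU, hxU⟩ := exists_affine ((π f).base (j.base z))
  obtain ⟨φ, hφ⟩ := exists_factor (g ≫ π f) hU (by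
    show (π f).base (j.base ((Z.fromSpecStalk z).base (IsLocalRing.closedPoint R))) ∈ U
    rw [Scheme.fromSpecStalk_closedPoint]
    exact hxU)
  obtain ⟨c, hc⟩ : ∃ c : CommRingCat.of (AlgebraicClosure k) ⟶ R, g ≫ str f = Spec.map c :=
    ⟨Spec.preimage _, (Spec.map_preimage _).symm⟩
  have hcr : c ≫ r = 𝟙 _ := by
    refine Spec.map_injective ?_
    rw [Spec.map_comp, ← hc, Spec.map_id]
    show Spec.map r ≫ (Z.fromSpecStalk z ≫ j) ≫ str f = _
    rw [Category.assoc, reassoc_of% hp, pointOfClosedPoint_comp]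
  have hφq : ∀ s, φ.hom s ^ Nat.card k = φ.hom s := fun s => by
    obtain ⟨ψ, hψ, hcomp⟩ := comp_frob FX hle hFapp hU φ
    have h1 : Spec.map ψ ≫ hU.fromSpec = Spec.map φ ≫ hU.fromSpec := by
      rw [← hcomp, ← hφ, Category.assoc, ← hF1, Category.assoc, reassoc_of% hj, Category.assoc]
    rw [← hψ, Spec.map_injective ((cancel_mono hU.fromSpec).mp h1)]
  letI : Algebra k R := (c.hom.comp (algebraMap k (AlgebraicClosure k))).toAlgebra
  letI := Fintype.ofFinite k
  have hR : ∀ a b : R, (a - b) ^ Nat.card k = a ^ Nat.card k - b ^ Nat.card k := fun a b => by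
    rw [Nat.card_eq_fintype_card]
    exact map_sub (FiniteField.frobeniusAlgHom k R) a b
  have hr_c : ∀ a, r.hom (c.hom a) = a := fun a => ConcreteCategory.congr_hom hcr a
  have hconst : ∀ s, φ.hom s = c.hom (r.hom (φ.hom s)) := fun s => by
    have hcq : c.hom (r.hom (φ.hom s)) ^ Nat.card k = c.hom (r.hom (φ.hom s)) := by
      rw [← map_pow, ← map_pow, hφq]
    let b := φ.hom s - c.hom (r.hom (φ.hom s))
    have hb : b ^ Nat.card k = b := by rw [hR, hφq, hcq]
    have hrb : r.hom b = 0 := by rw [map_sub, hr_c, sub_self]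
    have hbu : ¬ IsUnit b := fun h => not_isUnit_zero (hrb ▸ h.map r.hom)
    obtain ⟨q, hq⟩ : ∃ q, Nat.card k = q + 2 :=
      ⟨Nat.card k - 2, (Nat.sub_add_cancel (Finite.one_lt_card : 1 < Nat.card k)).symm⟩
    have : b * (1 - b ^ (q + 1)) = 0 := by
      rw [mul_sub, mul_one, ← pow_succ', ← hq, hb, sub_self]
    have hu : IsUnit (1 - b ^ (q + 1)) :=
      (IsLocalRing.isUnit_or_isUnit_of_add_one (a := b ^ (q + 1)) (b := 1 - b ^ (q + 1)) (by ring)).resolve_left
        fun h => hbu ((isUnit_pow_iff (Nat.succ_ne_zero q)).mp h)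
    exact sub_eq_zero.mp (hu.mul_left_eq_zero.mp this)
  have hg : g = Spec.map c ≫ Spec.map r ≫ g := by
    refine pullback.hom_ext ?_ ?_
    · show g ≫ π f = (Spec.map c ≫ Spec.map r ≫ g) ≫ π f
      conv_rhs => rw [Category.assoc, Category.assoc]
      rw [hφ, ← Spec.map_comp_assoc, ← Spec.map_comp_assoc]
      congr 2
      ext s
      exact hconst s
    · show g ≫ str f = (Spec.map c ≫ Spec.map r ≫ g) ≫ str f
      conv_rhs => rw [Category.assoc, Category.assoc]
      rw [hc, ← Spec.map_comp, hcr, Spec.map_id, Category.comp_id]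
  have hid : r ≫ c = 𝟙 R := by
    refine Spec.map_injective ((cancel_mono (Z.fromSpecStalk z ≫ j)).mp ?_)
    rw [Spec.map_id, Category.id_comp, Spec.map_comp, Category.assoc]
    exact hg.symm
  have hinj : Function.Injective r.hom := fun a b h => by
    rw [← ConcreteCategory.id_apply (X := R) a, ← ConcreteCategory.id_apply (X := R) b, ← hid]
    exact congrArg c.hom h
  refine ⟨isReduced_of_injective r.hom hinj, fun y hy => ?_⟩
  obtain ⟨p, rfl⟩ : y ∈ Set.range (Z.fromSpecStalk z).base := by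
    rw [Scheme.range_fromSpecStalk]; exact hy
  haveI : IsIso r := ⟨c, hid, hcr⟩
  obtain ⟨p', rfl⟩ : p ∈ Set.range (Spec.map r).base := (Spec.map r).surjective p
  rw [show p' = IsLocalRing.closedPoint _ from Subsingleton.elim _ _]
  show (Spec.map r ≫ Z.fromSpecStalk z).base (IsLocalRing.closedPoint _) = z
  rw [hp]
  exact pointOfClosedPoint_apply _ _ _ _

theorem fix_isClosed (y : Z) : IsClosed ({y} : Set Z) := by
  haveI : JacobsonSpace Z := LocallyOfFiniteType.jacobsonSpace (j ≫ str f)
  obtain ⟨z, hz, hzc⟩ := nonempty_inter_closedPoints (X := Z) (Z := closure {y}) ⟨y, subset_closure rfl⟩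
    isClosed_closure.isLocallyClosed
  rw [(fix_closed FX hle hFapp F hF1 hF2 j hj hzc).2 y (specializes_iff_mem_closure.mpr hz)]
  exact hzc

theorem fix_isReduced : IsReduced Z := by
  haveI : ∀ z : Z, _root_.IsReduced (Z.presheaf.stalk z) := fun z =>
    (fix_closed FX hle hFapp F hF1 hF2 j hj (fix_isClosed FX hle hFapp F hF1 hF2 j hj z)).1
  exact isReduced_of_isReduced_stalk Z

theorem fix_finite [QuasiCompact f] : Finite Z := by
  have hpt : ∀ z : Z, ∃ (h : Pts f) (p : Spec (CommRingCat.of (AlgebraicClosure k)) ⟶ Z),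
      p.base (IsLocalRing.closedPoint _) = z ∧ p ≫ j = lift h ∧ frPts h = h := fun z => by
    let p := pointOfClosedPoint (j ≫ str f) z (fix_isClosed FX hle hFapp F hF1 hF2 j hj z)
    have hp : p ≫ j ≫ str f = 𝟙 _ := pointOfClosedPoint_comp _ _ _
    let h : Pts f := ⟨p ≫ j ≫ π f, by
      rw [Category.assoc, Category.assoc, pullback.condition, reassoc_of% hp]⟩
    have hl : p ≫ j = lift h := pullback.hom_ext (by rw [Category.assoc]; exact (lift_π h).symm)
      (by rw [Category.assoc]; exact hp.trans (lift_str h).symm)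
    refine ⟨h, p, pointOfClosedPoint_apply _ _ _ _, hl, Subtype.ext ?_⟩
    rw [← lift_π (frPts h), ← lift_comp FX hle hFapp F hF1 hF2 h, ← hl, Category.assoc p, hj, Category.assoc]
  have hemb : ∀ z : Z, ∃ e : Emb f ((π f).base (j.base z)),
      (∀ c, e.1.hom c ^ Nat.card k = e.1.hom c) ∧ pt (ofEmb e) = j.base z := fun z => by
    obtain ⟨h, p, rfl, hl, hfr⟩ := hpt z
    obtain ⟨x, e, rfl⟩ := exists_ofEmb_eq f h
    have hy : j.base (p.base (IsLocalRing.closedPoint _)) = pt (ofEmb e) :=
      congrArg (fun g : Spec (CommRingCat.of (AlgebraicClosure k)) ⟶ Xb f => g.base (IsLocalRing.closedPoint _)) hl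
    rw [hy, π_pt_ofEmb]
    refine ⟨e, fun c => ?_, rfl⟩
    rw [frPts_ofEmb] at hfr
    have := ofEmb_injective f (a₁ := ⟨x, frEmb e⟩) (a₂ := ⟨x, e⟩) hfr
    conv_rhs => rw [← eq_of_heq (Sigma.mk.inj this).2]
    exact (frK_apply _).symm
  haveI : Finite {x : X // IsClosed ({x} : Set X) ∧ EGA4loc.residueDegree f x = 1} :=
    finite_closed_degree f one_ne_zero
  have hdeg : ∀ z : Z, IsClosed ({(π f).base (j.base z)} : Set X) ∧
      EGA4loc.residueDegree f ((π f).base (j.base z)) = 1 := fun z => by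
    obtain ⟨e, he, hez⟩ := hemb z
    refine (closed_and_degree_iff' f _ ?_)
    intro c
    obtain ⟨a, ha⟩ := mem_range_of_pow_card_eq k _ _ (he c)
    exact ⟨a, e.1.hom.injective ((ConcreteCategory.congr_hom e.2 a).trans ha)⟩
  refine Finite.of_injective (fun z : Z => (⟨_, hdeg z⟩ :
    {x : X // IsClosed ({x} : Set X) ∧ EGA4loc.residueDegree f x = 1})) fun z z' hzz => ?_
  have hx : (π f).base (j.base z) = (π f).base (j.base z') := congrArg Subtype.val hzz
  obtain ⟨e, he, hez⟩ := hemb z
  obtain ⟨e', he', hez'⟩ := hemb z'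
  have : j.base z = j.base z' := by
    generalize (π f).base (j.base z') = x' at e' hx
    subst hx
    rw [← hez, ← hez']
    congr 2
    refine Subtype.ext (CommRingCat.hom_ext (RingHom.ext fun c => ?_))
    obtain ⟨a, ha⟩ := mem_range_of_pow_card_eq k _ _ (he c)
    have : (VarDim.baseToRes f _) a = c := e.1.hom.injective ((ConcreteCategory.congr_hom e.2 a).trans ha)
    rw [← this]
    exact (ConcreteCategory.congr_hom e.2 a).trans (ConcreteCategory.congr_hom e'.2 a).symm
  obtain ⟨h, p, rfl, hl, -⟩ := hpt z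
  obtain ⟨h', p', rfl, hl', -⟩ := hpt z'
  have hh : h = h' := pt_injective f (by
    show (lift h).base (IsLocalRing.closedPoint _) = (lift h').base (IsLocalRing.closedPoint _)
    rw [← hl, ← hl']; exact this)
  rw [(cancel_mono j).mp (hl.trans (by rw [hh, hl']))]
where
  closed_and_degree_iff' {Y : Scheme.{u}} (g : Y ⟶ Spec (CommRingCat.of k)) [LocallyOfFiniteType g] (y : Y)
      (hs : Function.Surjective (VarDim.baseToRes g y)) :
      IsClosed ({y} : Set Y) ∧ EGA4loc.residueDegree g y = 1 := by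
    letI := VarDim.resAlg g y
    let e : k ≃ₗ[k] Y.residueField y :=
      LinearEquiv.ofBijective (Algebra.linearMap k _) ⟨(algebraMap k _).injective, hs⟩
    refine ⟨WeilH13.isClosed_of_finite_residueField g y (Module.Finite.equiv e), ?_⟩
    rw [WeilH13.residueDegree_eq_finrank g y, ← e.finrank_eq, Module.finrank_self]

end Groth.Agent.Zeta25.Geom

namespace Groth.Agent.Zeta25.Geom

open AlgebraicGeometry CategoryTheory Limits

universe u

/-- The projection of the fixed-point scheme is equalised. -/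
theorem fst_comp {Y S : Scheme.{u}} (p : Y ⟶ S) (F : Y ⟶ Y) (hF : F ≫ p = p) :
    pullback.fst (pullback.lift (𝟙 Y) F (by rw [hF, Category.id_comp]) : Y ⟶ pullback p p)
      (pullback.lift (𝟙 Y) (𝟙 Y) rfl) ≫ F =
    pullback.fst (pullback.lift (𝟙 Y) F (by rw [hF, Category.id_comp]) : Y ⟶ pullback p p)
      (pullback.lift (𝟙 Y) (𝟙 Y) rfl) := by
  have h := pullback.condition (f := (pullback.lift (𝟙 Y) F (by rw [hF, Category.id_comp]) : Y ⟶ pullback p p))
    (g := (pullback.lift (𝟙 Y) (𝟙 Y) rfl : Y ⟶ pullback p p))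
  have h1 := congrArg (· ≫ pullback.fst p p) h
  have h2 := congrArg (· ≫ pullback.snd p p) h
  simp only [Category.assoc, pullback.lift_fst, pullback.lift_snd, Category.comp_id] at h1 h2
  rw [h2, ← h1]

end Groth.Agent.Zeta25.Geom
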