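import Groth.Agent.Lib.Zeta25.ClosedPoints
import Groth.Agent.Lib.WeilH13.Count
import Groth.Prelude.Def_SgaExt
import Mathlib.FieldTheory.Finite.GaloisField
import Mathlib.FieldTheory.Finite.Extension

/-!
Points with values in finite fields versus closed points.
-/

namespace Groth.Agent.Zeta25

open AlgebraicGeometry CategoryTheory

universe u

variable {k : Type u} [Field k] {X : Scheme.{u}} (f : X ⟶ Spec (CommRingCat.of k))

theorem comp_eq_iff (k' : Type u) [Field k'] [Algebra k k'] (x : X) (σ : X.residueField x ⟶ CommRingCat.of k') :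
    (Spec.map σ ≫ X.fromSpecResidueField x) ≫ f = Spec.map (CommRingCat.ofHom (algebraMap k k')) ↔
      CommRingCat.ofHom (VarDim.baseToRes f x) ≫ σ = CommRingCat.ofHom (algebraMap k k') := by
  rw [Category.assoc, WeilH13.fromSpecResidueField_comp, ← Spec.map_comp]
  exact Spec.map_inj

/-- Reassociation of a subtype of a sigma type. -/
def sigmaSubtype {α : Type u} {β : α → Type u} {γ : Type u} (e : γ ≃ Σ x, β x) (q : γ → Prop)
    (p : ∀ x, β x → Prop) (h : ∀ z, q (e.symm z) ↔ p z.1 z.2) : {g // q g} ≃ Σ x, {y : β x // p x y} :=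
  ((e.symm.subtypeEquiv (p := fun z => p z.1 z.2) (q := q) fun z => (h z).symm).symm).trans
    { toFun := fun z => ⟨z.1.1, z.1.2, z.2⟩
      invFun := fun z => ⟨⟨z.1, z.2.1⟩, z.2.2⟩
      left_inv := fun _ => rfl
      right_inv := fun _ => rfl }

/-- Points over `k` in terms of embeddings of residue fields. -/
noncomputable def pointsEquiv (k' : Type u) [Field k'] [Algebra k k'] :
    {g : Spec (CommRingCat.of k') ⟶ X // g ≫ f = Spec.map (CommRingCat.ofHom (algebraMap k k'))} ≃
      Σ x : X, {σ : X.residueField x ⟶ CommRingCat.of k' //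
        CommRingCat.ofHom (VarDim.baseToRes f x) ≫ σ = CommRingCat.ofHom (algebraMap k k')} :=
  sigmaSubtype (Scheme.SpecToEquivOfField k' X)
    (fun g => g ≫ f = Spec.map (CommRingCat.ofHom (algebraMap k k')))
    (fun x σ => CommRingCat.ofHom (VarDim.baseToRes f x) ≫ σ = CommRingCat.ofHom (algebraMap k k'))
    (fun z => by
      rw [Scheme.SpecToEquivOfField_symm_apply]
      exact comp_eq_iff f k' z.1 z.2)

variable [Finite k] [LocallyOfFiniteType f]

theorem card_embeddings (k' : Type u) [Field k'] [Algebra k k'] [Finite k'] (x : X) :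
    Nat.card {σ : X.residueField x ⟶ CommRingCat.of k' //
        CommRingCat.ofHom (VarDim.baseToRes f x) ≫ σ = CommRingCat.ofHom (algebraMap k k')} =
      {x : X | IsClosed ({x} : Set X) ∧ EGA4loc.residueDegree f x ∣ Module.finrank k k'}.indicator
        (EGA4loc.residueDegree f) x := by
  classical
  letI := VarDim.resAlg f x
  let e : {σ : X.residueField x ⟶ CommRingCat.of k' //
      CommRingCat.ofHom (VarDim.baseToRes f x) ≫ σ = CommRingCat.ofHom (algebraMap k k')} ≃
      (X.residueField x →ₐ[k] k') :=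
    { toFun := fun σ => AlgHom.mk σ.1.hom fun c => ConcreteCategory.congr_hom σ.2 c
      invFun := fun τ => ⟨CommRingCat.ofHom τ.toRingHom, by ext c; exact τ.commutes c⟩
      left_inv := fun _ => rfl
      right_inv := fun _ => rfl }
  rw [Nat.card_congr e]
  by_cases h : IsClosed ({x} : Set X) ∧ Module.finrank k (X.residueField x) ∣ Module.finrank k k'
  · rw [Set.indicator_of_mem (by simpa [WeilH13.residueDegree_eq_finrank f x] using h),
      WeilH13.residueDegree_eq_finrank f x]
    exact FiniteField.natCard_algHom_of_finrank_dvd h.2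
  · rw [Set.indicator_of_notMem (by simpa [WeilH13.residueDegree_eq_finrank f x] using h), Nat.card_eq_zero]
    refine Or.inl ⟨fun τ => h ?_⟩
    haveI : Finite (X.residueField x) := Finite.of_injective τ τ.toRingHom.injective
    haveI : Module.Finite k (X.residueField x) := Module.Finite.of_finite
    refine ⟨WeilH13.isClosed_of_finite_residueField f x inferInstance, ?_⟩
    letI := τ.toRingHom.toAlgebra
    haveI : IsScalarTower k (X.residueField x) k' := IsScalarTower.of_algebraMap_eq fun c => (τ.commutes c).symm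
    exact Dvd.intro _ (Module.finrank_mul_finrank k (X.residueField x) k')

variable [QuasiCompact f]

include f in
theorem finite_points (k' : Type u) [Field k'] [Finite k'] : Finite (Spec (CommRingCat.of k') ⟶ X) := by
  classical
  haveI : CompactSpace X := (HasAffineProperty.iff_of_isAffine (P := @QuasiCompact) (f := f)).mp inferInstance
  let j : X ⟶ Spec (CommRingCat.of (ULift.{u} ℤ)) :=
    f ≫ Spec.map (CommRingCat.ofHom ((Int.castRingHom k).comp ULift.ringEquiv.toRingHom))
  haveI : LocallyOfFiniteType (Spec.map (CommRingCat.ofHom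
      ((Int.castRingHom k).comp (ULift.ringEquiv.{0, u}.toRingHom : ULift.{u} ℤ →+* ℤ)))) := by
    rw [HasRingHomProperty.Spec_iff (P := @LocallyOfFiniteType)]
    haveI : Module.Finite ℤ k := Module.Finite.of_finite
    exact RingHom.FiniteType.comp (RingHom.finiteType_algebraMap.mpr inferInstance)
      (RingHom.FiniteType.of_surjective _ ULift.ringEquiv.surjective)
  haveI : QuasiCompact j := (HasAffineProperty.iff_of_isAffine (P := @QuasiCompact) (f := j)).mpr inferInstance
  -- finiteness only needs some crude bound, valid in every dimension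
  obtain ⟨t, ht⟩ := isCompact_univ.elim_finite_subcover (fun U : X.affineOpens => ((U : X.Opens) : Set X))
    (fun U => U.1.2) (fun x _ => by
      obtain ⟨U, hU, hxU, -⟩ :=
        X.isBasis_affineOpens.exists_subset_of_mem_open (Set.mem_univ x) isOpen_univ
      obtain ⟨V, hV, rfl⟩ := hU
      exact Set.mem_iUnion.mpr ⟨⟨V, hV⟩, hxU⟩)
  haveI : ∀ U : t, Finite (Γ(X, U.1.1) →+* k') := fun U => by
    obtain ⟨n, e, he⟩ := exists_surjective_sections j U.1.2
    exact Finite.of_injective (fun φ : Γ(X, U.1.1) →+* k' => fun i => φ (e (MvPolynomial.X i))) fun φ ψ h => by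
      rw [← RingHom.cancel_right he]
      exact MvPolynomial.ringHom_ext' (RingHom.ext_int _ _) fun i => congrFun h i
  refine Finite.of_surjective (fun s : Σ U : t, Γ(X, U.1.1) →+* k' =>
    Spec.map (CommRingCat.ofHom s.2) ≫ s.1.1.2.fromSpec) fun g => ?_
  obtain ⟨U, hU⟩ := Set.mem_iUnion.mp (ht (Set.mem_univ (g.base default)))
  obtain ⟨hUt, hxU⟩ := Set.mem_iUnion.mp hU
  have hrange : Set.range g.base ⊆ Set.range U.2.fromSpec.base := by
    rw [U.2.range_fromSpec]
    rintro _ ⟨z, rfl⟩
    rw [Subsingleton.elim z default]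
    exact hxU
  refine ⟨⟨⟨U, hUt⟩, (Spec.preimage (IsOpenImmersion.lift U.2.fromSpec g hrange)).hom⟩, ?_⟩
  show Spec.map (CommRingCat.ofHom _) ≫ _ = g
  rw [CommRingCat.ofHom_hom, Spec.map_preimage]
  exact IsOpenImmersion.lift_fac _ _ _

/-- An extension of each degree, in every universe. -/
theorem exists_extension (k : Type u) [Field k] [Finite k] (n : ℕ) (hn : n ≠ 0) :
    ∃ (k' : Type u) (_ : Field k') (_ : Algebra k k'), Finite k' ∧ Module.finrank k k' = n := by
  obtain ⟨p, hp⟩ := CharP.exists k
  haveI : Fact p.Prime := ⟨(CharP.char_is_prime_or_zero k p).resolve_right fun h => by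
    subst h
    haveI : CharZero k := CharP.charP_to_charZero k
    exact not_finite k⟩
  haveI : NeZero n := ⟨hn⟩
  refine ⟨ULift.{u} (FiniteField.Extension k p n), inferInstance, inferInstance, inferInstance, ?_⟩
  rw [ULift.moduleEquiv.finrank_eq, FiniteField.finrank_extension]

theorem finite_closed_degree {e : ℕ} (he : e ≠ 0) :
    Finite {x : X // IsClosed ({x} : Set X) ∧ EGA4loc.residueDegree f x = e} := by
  obtain ⟨k', _, _, _, hd⟩ := exists_extension k e he
  haveI := finite_points f k'
  haveI : Finite (Σ x : X, {σ : X.residueField x ⟶ CommRingCat.of k' //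
      CommRingCat.ofHom (VarDim.baseToRes f x) ≫ σ = CommRingCat.ofHom (algebraMap k k')}) :=
    Finite.of_equiv _ (pointsEquiv f k')
  have hne : ∀ x : {x : X // IsClosed ({x} : Set X) ∧ EGA4loc.residueDegree f x = e}, Nonempty
      {σ : X.residueField x.1 ⟶ CommRingCat.of k' //
        CommRingCat.ofHom (VarDim.baseToRes f x.1) ≫ σ = CommRingCat.ofHom (algebraMap k k')} := fun x => by
    refine (Nat.card_pos_iff.mp ?_).1
    rw [card_embeddings f k' x.1, Set.indicator_of_mem (by exact ⟨x.2.1, by rw [x.2.2, hd]⟩), x.2.2]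
    exact Nat.pos_of_ne_zero he
  exact Finite.of_injective (fun x => (⟨x.1, (hne x).some⟩ : Σ x : X, {σ : X.residueField x ⟶ CommRingCat.of k' //
      CommRingCat.ofHom (VarDim.baseToRes f x) ≫ σ = CommRingCat.ofHom (algebraMap k k')}))
    fun a b h => Subtype.ext (congrArg Sigma.fst h :)

/-- `#X(k') = N_r`, `r = [k' : k]`. -/
theorem pointCount_eq_nPts (k' : Type u) [Field k'] [Algebra k k'] [Finite k'] :
    SgaExt.pointCount f k' = Zeta.nPts f (Module.finrank k k') := by
  classical
  haveI : Module.Finite k k' := Module.Finite.of_finite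
  have hr : 0 < Module.finrank k k' := Module.finrank_pos
  haveI : ∀ e : (Module.finrank k k').divisors,
      Finite {x : X // IsClosed ({x} : Set X) ∧ EGA4loc.residueDegree f x = e.1} := fun e =>
    finite_closed_degree f (fun h => hr.ne' (zero_dvd_iff.mp (h ▸ Nat.dvd_of_mem_divisors e.2)))
  let T : X → Type u := fun x => {σ : X.residueField x ⟶ CommRingCat.of k' //
    CommRingCat.ofHom (VarDim.baseToRes f x) ≫ σ = CommRingCat.ofHom (algebraMap k k')}
  haveI := finite_points f k'
  haveI : Finite (Σ x, T x) := Finite.of_equiv _ (pointsEquiv f k')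
  haveI : ∀ x, Finite (T x) := fun x =>
    Finite.of_injective (fun σ => (⟨x, σ⟩ : Σ x, T x)) fun a b h => eq_of_heq (Sigma.mk.inj h).2
  have hmem : ∀ x : X, ∀ _ : T x, IsClosed ({x} : Set X) ∧
      EGA4loc.residueDegree f x ∈ (Module.finrank k k').divisors := fun x σ => by
    have h : 0 < Nat.card (T x) := Nat.card_pos_iff.mpr ⟨⟨σ⟩, inferInstance⟩
    rw [card_embeddings f k' x] at h
    have hx := Set.mem_of_indicator_ne_zero h.ne'
    exact ⟨hx.1, Nat.mem_divisors.mpr ⟨hx.2, hr.ne'⟩⟩
  let e : (Σ x, T x) ≃ Σ d : (Module.finrank k k').divisors,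
      Σ x : {x : X // IsClosed ({x} : Set X) ∧ EGA4loc.residueDegree f x = d.1}, T x.1 :=
    { toFun := fun z => ⟨⟨_, (hmem z.1 z.2).2⟩, ⟨z.1, (hmem z.1 z.2).1, rfl⟩, z.2⟩
      invFun := fun z => ⟨z.2.1.1, z.2.2⟩
      left_inv := fun _ => rfl
      right_inv := by
        rintro ⟨⟨d, hd⟩, ⟨x, hx, hxd⟩, σ⟩
        dsimp only at hxd
        subst hxd
        rfl }
  rw [SgaExt.pointCount, Nat.card_congr ((pointsEquiv f k').trans e), Nat.card_sigma, Zeta.nPts,
    ← Finset.sum_coe_sort (Module.finrank k k').divisors]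
  refine Finset.sum_congr rfl fun d _ => ?_
  letI := Fintype.ofFinite {x : X // IsClosed ({x} : Set X) ∧ EGA4loc.residueDegree f x = d.1}
  rw [Nat.card_sigma, Finset.sum_congr rfl fun (x : {x : X // IsClosed ({x} : Set X) ∧ EGA4loc.residueDegree f x = d.1}) _ => (card_embeddings f k' x.1).trans
    ((Set.indicator_of_mem (show (x : X) ∈ {y : X | IsClosed ({y} : Set X) ∧ EGA4loc.residueDegree f y ∣ Module.finrank k k'} from
      ⟨x.2.1, by rw [x.2.2]; exact Nat.dvd_of_mem_divisors d.2⟩) _).trans x.2.2),
    Finset.sum_const, Finset.card_univ, smul_eq_mul, Zeta.degCount, Nat.card_eq_fintype_card, mul_comm]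

end Groth.Agent.Zeta25
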