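import Groth.Agent.Lib.Zeta25.PointCount
import Groth.Agent.Lib.WeilH13.LinAlg
import Mathlib.RingTheory.PowerSeries.Trunc
import Mathlib.Algebra.Algebra.Rat
import Mathlib.Algebra.BigOperators.Field

/-!
The zeta series as an exponential: products, truncations, rescaling.
-/

namespace Groth.Agent.Zeta25

open PowerSeries

universe u v

variable {K : Type u} [Field K] [CharZero K]

/-- The formal exponential of a series without constant term. -/
noncomputable def expL (L : K⟦X⟧) : K⟦X⟧ := PowerSeries.subst L (PowerSeries.exp K)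

theorem zetaFun_eq {k : Type u} [Field k] {X : AlgebraicGeometry.Scheme.{u}}
    (f : X ⟶ AlgebraicGeometry.Spec (CommRingCat.of k)) : Zeta.zetaFun f = expL (Zeta.logZeta f) := by
  rw [Zeta.zetaFun, expL]
  congr! 2

theorem constantCoeff_expL {L : K⟦X⟧} (hL : constantCoeff L = 0) : constantCoeff (expL L) = 1 := by
  have h := HasSubst.of_constantCoeff_zero' hL
  rw [expL, ← coeff_zero_eq_constantCoeff, coeff_subst' h,
    finsum_eq_single _ 0 fun d hd ↦ by simp [coeff_zero_eq_constantCoeff, map_pow, hL, zero_pow hd]]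
  simp

theorem derivative_expL {L : K⟦X⟧} (hL : constantCoeff L = 0) : d⁄dX K (expL L) = expL L * d⁄dX K L := by
  rw [expL, derivative_subst (HasSubst.of_constantCoeff_zero' hL), derivative_exp]

theorem eq_expL {F L : K⟦X⟧} (hL : constantCoeff L = 0) (hF : d⁄dX K F = F * d⁄dX K L)
    (h0 : constantCoeff F = 1) : F = expL L :=
  WeilH13.eq_of_derivative_eq_mul hF (derivative_expL hL) (h0.trans (constantCoeff_expL hL).symm)

theorem expL_zero : expL (0 : K⟦X⟧) = 1 :=
  (eq_expL (map_zero _) (by simp) (by simp)).symm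

theorem expL_add {L M : K⟦X⟧} (hL : constantCoeff L = 0) (hM : constantCoeff M = 0) :
    expL (L + M) = expL L * expL M := by
  refine (eq_expL (by rw [map_add, hL, hM, add_zero]) ?_ ?_).symm
  · rw [Derivation.leibniz, derivative_expL hL, derivative_expL hM, map_add, smul_eq_mul, smul_eq_mul]
    ring
  · rw [map_mul, constantCoeff_expL hL, constantCoeff_expL hM, one_mul]

theorem expL_sum {ι : Type*} (s : Finset ι) (L : ι → K⟦X⟧) (hL : ∀ i ∈ s, constantCoeff (L i) = 0) :
    expL (∑ i ∈ s, L i) = ∏ i ∈ s, expL (L i) := by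
  classical
  induction s using Finset.induction with
  | empty => simp [expL_zero]
  | insert a s ha ih =>
    have hs := fun i hi => hL i (Finset.mem_insert_of_mem hi)
    rw [Finset.sum_insert ha, Finset.prod_insert ha,
      expL_add (hL a (Finset.mem_insert_self a s)) (by rw [map_sum]; exact Finset.sum_eq_zero hs), ih hs]

theorem expL_nsmul (n : ℕ) {L : K⟦X⟧} (hL : constantCoeff L = 0) : expL (n • L) = expL L ^ n := by
  have h := expL_sum (Finset.range n) (fun _ => L) fun _ _ => hL
  rwa [Finset.sum_const, Finset.card_range, Finset.prod_const, Finset.card_range] at h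

theorem expL_map {K' : Type v} [Field K'] [CharZero K'] (φ : K →+* K') {L : K⟦X⟧} (hL : constantCoeff L = 0) :
    PowerSeries.map φ (expL L) = expL (PowerSeries.map φ L) := by
  have hd : ∀ F : K⟦X⟧, d⁄dX K' (PowerSeries.map φ F) = PowerSeries.map φ (d⁄dX K F) := fun F => by
    ext n
    simp [coeff_derivative]
  refine eq_expL (by rw [← coeff_zero_eq_constantCoeff_apply, coeff_map, coeff_zero_eq_constantCoeff, hL, map_zero]) ?_ ?_
  · rw [hd, hd, derivative_expL hL, map_mul]
  · rw [← coeff_zero_eq_constantCoeff_apply, coeff_map, coeff_zero_eq_constantCoeff, constantCoeff_expL hL, map_one]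

theorem expL_subst {L b : K⟦X⟧} (hL : constantCoeff L = 0) (hb : constantCoeff b = 0) :
    PowerSeries.subst b (expL L) = expL (PowerSeries.subst b L) :=
  subst_comp_subst_apply (HasSubst.of_constantCoeff_zero' hL) (HasSubst.of_constantCoeff_zero' hb) _

theorem expL_rescale (a : K) {L : K⟦X⟧} (hL : constantCoeff L = 0) :
    rescale a (expL L) = expL (rescale a L) := by
  have hd : ∀ F : K⟦X⟧, d⁄dX K (rescale a F) = C a * rescale a (d⁄dX K F) := fun F => by
    ext n
    simp only [coeff_derivative, coeff_rescale, coeff_C_mul]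
    ring
  refine eq_expL ?_ ?_ ?_
  · rw [← coeff_zero_eq_constantCoeff, coeff_rescale, coeff_zero_eq_constantCoeff, hL, mul_zero]
  · rw [hd, hd, derivative_expL hL, map_mul]
    ring
  · rw [← coeff_zero_eq_constantCoeff, coeff_rescale, coeff_zero_eq_constantCoeff, constantCoeff_expL hL]
    simp

variable (K) in
/-- `log (1 - X ^ r)`. -/
noncomputable def logOneSub (r : ℕ) : K⟦X⟧ :=
  PowerSeries.mk fun m => if r ∣ m then -((r : K) / m) else 0

theorem constantCoeff_logOneSub (r : ℕ) : constantCoeff (logOneSub K r) = 0 := by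
  simp [logOneSub, ← coeff_zero_eq_constantCoeff_apply]

theorem one_sub_X_pow_eq {r : ℕ} (hr : r ≠ 0) : (1 : K⟦X⟧) - X ^ r = expL (logOneSub K r) := by
  refine eq_expL (constantCoeff_logOneSub r) ?_ (by simp [zero_pow hr])
  have hH : d⁄dX K (logOneSub K r) = PowerSeries.mk fun j => if r ∣ j + 1 then -(r : K) else 0 := by
    ext j
    rw [coeff_derivative, logOneSub, coeff_mk, coeff_mk]
    split_ifs
    · rw [Nat.cast_succ, neg_mul, div_mul_cancel₀ _ (Nat.cast_add_one_ne_zero j)]
    · rw [zero_mul]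
  ext j
  rw [hH, coeff_derivative, sub_mul, one_mul, map_sub, map_sub, coeff_mk, coeff_X_pow_mul', coeff_one,
    coeff_X_pow, if_neg (Nat.succ_ne_zero j)]
  rcases lt_trichotomy (j + 1) r with h | h | h
  · rw [if_neg h.ne, if_neg (fun hd => (Nat.le_of_dvd (Nat.succ_pos j) hd).not_gt h), if_neg (by omega)]
    simp
  · subst h
    rw [if_pos rfl, if_pos dvd_rfl, if_neg (by omega)]
    push_cast
    ring
  · rw [if_neg h.ne', if_pos (Nat.le_of_lt_succ h), coeff_mk]
    have : r ∣ j + 1 ↔ r ∣ j - r + 1 := by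
      rw [show j + 1 = (j - r + 1) + r by omega]
      exact Nat.dvd_add_self_right
    by_cases hd : r ∣ j + 1
    · rw [if_pos hd, if_pos (this.mp hd)]; simp
    · rw [if_neg hd, if_neg (fun h' => hd (this.mpr h'))]; simp

theorem one_sub_C_mul_X_eq (c : K) : (1 : K⟦X⟧) - C c * X = expL (rescale c (logOneSub K 1)) := by
  rw [← expL_rescale c (constantCoeff_logOneSub 1), ← one_sub_X_pow_eq one_ne_zero, map_sub, map_one,
    pow_one, rescale_X]

theorem coeff_expL_eq_zero {L : K⟦X⟧} {n : ℕ} (hL0 : constantCoeff L = 0)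
    (h : ∀ m, m ≤ n → coeff m L = 0) : ∀ m, 1 ≤ m → m ≤ n → coeff m (expL L) = 0 := by
  intro m hm1 hm
  obtain ⟨j, rfl⟩ : ∃ j, m = j + 1 := ⟨m - 1, by omega⟩
  have hd := congrArg (coeff j) (derivative_expL hL0)
  rw [coeff_derivative, coeff_mul, Finset.sum_eq_zero fun p hp => by
    have := Finset.mem_antidiagonal.mp hp
    rw [coeff_derivative, h (p.2 + 1) (by omega), zero_mul, mul_zero]] at hd
  exact (mul_eq_zero.mp hd).resolve_right (Nat.cast_add_one_ne_zero j)

section Scheme

open AlgebraicGeometry CategoryTheory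

variable {k : Type u} [Field k] {Y : Scheme.{u}} (f : Y ⟶ Spec (CommRingCat.of k))

theorem coeff_logZeta (m : ℕ) : coeff m (Zeta.logZeta f) = (Zeta.nPts f m : ℚ) / m := by
  rw [Zeta.logZeta, coeff_mk]

theorem nPts_zero : Zeta.nPts f 0 = 0 := by simp [Zeta.nPts]

theorem constantCoeff_logZeta : constantCoeff (Zeta.logZeta f) = 0 := by
  rw [← coeff_zero_eq_constantCoeff_apply, coeff_logZeta]; simp

theorem trunc_zetaFun_mul_prod (n : ℕ) : PowerSeries.trunc (n + 1)
    (Zeta.zetaFun f * ∏ r ∈ Finset.Icc 1 n, (1 - PowerSeries.X ^ r) ^ Zeta.degCount f r) = 1 := by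
  set L : ℚ⟦X⟧ := Zeta.logZeta f + ∑ r ∈ Finset.Icc 1 n, Zeta.degCount f r • logOneSub ℚ r with hL
  have hc : ∀ r ∈ Finset.Icc 1 n, constantCoeff (Zeta.degCount f r • logOneSub ℚ r) = 0 := fun r _ => by
    rw [map_nsmul, constantCoeff_logOneSub, smul_zero]
  have hL0 : constantCoeff L = 0 := by
    rw [hL, map_add, constantCoeff_logZeta, zero_add, map_sum]
    exact Finset.sum_eq_zero hc
  have hW : Zeta.zetaFun f * ∏ r ∈ Finset.Icc 1 n, (1 - PowerSeries.X ^ r) ^ Zeta.degCount f r = expL L := by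
    rw [hL, expL_add (constantCoeff_logZeta f) (by rw [map_sum]; exact Finset.sum_eq_zero hc),
      expL_sum _ _ hc, zetaFun_eq]
    congr 1
    refine Finset.prod_congr rfl fun r hr => ?_
    rw [expL_nsmul _ (constantCoeff_logOneSub r), ← one_sub_X_pow_eq (by have := Finset.mem_Icc.mp hr; omega)]
  have hcoeff : ∀ m, m ≤ n → coeff m L = 0 := by
    intro m hm
    rcases Nat.eq_zero_or_pos m with rfl | hm0
    · rwa [coeff_zero_eq_constantCoeff]
    rw [hL, map_add, map_sum, coeff_logZeta]
    have hsub : m.divisors ⊆ Finset.Icc 1 n := fun r hr =>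
      Finset.mem_Icc.mpr ⟨Nat.pos_of_mem_divisors hr, (Nat.divisor_le hr).trans hm⟩
    rw [← Finset.sum_subset hsub fun r _ hr => by
      rw [map_nsmul, logOneSub, coeff_mk, if_neg (fun h => hr (Nat.mem_divisors.mpr ⟨h, hm0.ne'⟩)), smul_zero]]
    rw [Finset.sum_congr rfl fun r hr => show coeff m (Zeta.degCount f r • logOneSub ℚ r) =
        -(((r * Zeta.degCount f r : ℕ) : ℚ) / m) by
      rw [map_nsmul, logOneSub, coeff_mk, if_pos (Nat.dvd_of_mem_divisors hr), nsmul_eq_mul]
      push_cast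
      ring]
    rw [Finset.sum_neg_distrib, ← Finset.sum_div, ← Nat.cast_sum, ← Zeta.nPts, add_neg_cancel]
  rw [hW]
  ext m
  rw [coeff_trunc, Polynomial.coeff_one]
  rcases Nat.eq_zero_or_pos m with rfl | hm
  · simp [coeff_zero_eq_constantCoeff, constantCoeff_expL hL0]
  · rw [if_neg hm.ne']
    split_ifs with hmn
    · exact coeff_expL_eq_zero hL0 hcoeff m hm (Nat.lt_succ_iff.mp hmn)
    · rfl

theorem exists_int_coeff (n : ℕ) : ∃ z : ℤ, coeff n (Zeta.zetaFun f) = (z : ℚ) := by
  induction n using Nat.strong_induction_on with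
  | _ n ih =>
  set P : ℤ⟦X⟧ := ∏ r ∈ Finset.Icc 1 n, (1 - PowerSeries.X ^ r) ^ Zeta.degCount f r
  have hP : PowerSeries.map (Int.castRingHom ℚ) P =
      ∏ r ∈ Finset.Icc 1 n, (1 - PowerSeries.X ^ r) ^ Zeta.degCount f r := by
    simp [P, map_prod]
  have hP0 : constantCoeff P = 1 := by
    rw [map_prod]
    refine Finset.prod_eq_one fun r hr => ?_
    have := Finset.mem_Icc.mp hr
    simp [zero_pow (show r ≠ 0 by omega)]
  have h := congrArg (fun p : Polynomial ℚ => p.coeff n) (trunc_zetaFun_mul_prod f n)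
  simp only [coeff_trunc, if_pos (Nat.lt_succ_self n), ← hP, Polynomial.coeff_one, coeff_mul] at h
  rw [← Finset.add_sum_erase _ _ (show (n, 0) ∈ Finset.antidiagonal n by simp)] at h
  simp only [coeff_map, coeff_zero_eq_constantCoeff, hP0, map_one, mul_one] at h
  have hz : ∀ p ∈ (Finset.antidiagonal n).erase (n, 0), ∃ z : ℤ,
      coeff p.1 (Zeta.zetaFun f) * Int.castRingHom ℚ (coeff p.2 P) = (z : ℚ) := by
    rintro ⟨a, b⟩ hp
    obtain ⟨hne, hab⟩ := Finset.mem_erase.mp hp
    rw [Finset.mem_antidiagonal] at hab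
    obtain ⟨z, hz⟩ := ih a (by
      by_contra hle
      exact hne (Prod.ext (by simp only at hab ⊢; omega) (by simp only at hab ⊢; omega)))
    exact ⟨z * coeff b P, by rw [hz, eq_intCast]; push_cast; rfl⟩
  choose! z hz' using hz
  refine ⟨(if n = 0 then 1 else 0) - ∑ p ∈ (Finset.antidiagonal n).erase (n, 0), z p, ?_⟩
  rw [Finset.sum_congr rfl hz'] at h
  rw [eq_sub_of_add_eq h]
  push_cast
  rfl

end Scheme

end Groth.Agent.Zeta25
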