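import Groth.Agent.Lib.Zeta25.ZetaSeries
import Mathlib.AlgebraicGeometry.AffineSpace
import Mathlib.AlgebraicGeometry.Morphisms.Immersion

/-!
Point counts of decompositions, base changes and the affine line.
-/

namespace Groth.Agent.Zeta25

open AlgebraicGeometry CategoryTheory Limits

universe u v

variable {k : Type u} [Field k] {X : Scheme.{u}} (f : X ⟶ Spec (CommRingCat.of k))

theorem residueFieldMap_surjective {Y : Scheme.{u}} (g : Y ⟶ X) [SurjectiveOnStalks g] (y : Y) :
    Function.Surjective (g.residueFieldMap y).hom := fun z => by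
  obtain ⟨w, rfl⟩ := Y.residue_surjective y z
  obtain ⟨v, rfl⟩ := g.stalkMap_surjective y w
  exact ⟨X.residue (g y) v, ConcreteCategory.congr_hom (Scheme.residue_residueFieldMap g y) v⟩

theorem residueDegree_comp {Y : Scheme.{u}} (g : Y ⟶ X) [SurjectiveOnStalks g] (y : Y) :
    EGA4loc.residueDegree (g ≫ f) y = EGA4loc.residueDegree f (g y) := by
  rw [WeilH13.residueDegree_eq_finrank, WeilH13.residueDegree_eq_finrank]
  letI := VarDim.resAlg (g ≫ f) y
  letI := VarDim.resAlg f (g y)
  refine (Algebra.finrank_eq_of_equiv_equiv (RingEquiv.refl k) (RingEquiv.ofBijective (g.residueFieldMap y).hom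
    ⟨(g.residueFieldMap y).hom.injective, residueFieldMap_surjective g y⟩) ?_).symm
  ext c
  exact RingHom.congr_fun (VarDim.baseToRes_comp f g y) c

theorem closed_and_degree_iff [LocallyOfFiniteType f] {e : ℕ} (he : e ≠ 0) (x : X) :
    (IsClosed ({x} : Set X) ∧ EGA4loc.residueDegree f x = e) ↔ EGA4loc.residueDegree f x = e := by
  refine ⟨And.right, fun h => ⟨WeilH13.isClosed_of_finite_residueField f x ?_, h⟩⟩
  letI := VarDim.resAlg f x
  rw [WeilH13.residueDegree_eq_finrank f x] at h
  exact Module.finite_of_finrank_pos (h ▸ Nat.pos_of_ne_zero he)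

variable [Finite k] [LocallyOfFiniteType f] [QuasiCompact f]

theorem degCount_partition {ι : Type v} [Fintype ι] (Y : ι → Scheme.{u}) (g : ∀ i, Y i ⟶ X)
    [∀ i, IsImmersion (g i)]
    (hpart : ∀ x : X, IsClosed ({x} : Set X) → ∃! i, x ∈ Set.range (g i).base) {e : ℕ} (he : e ≠ 0) :
    Zeta.degCount f e = ∑ i, Zeta.degCount (g i ≫ f) e := by
  classical
  haveI := finite_closed_degree f he
  let θ : (Σ i, {y : Y i // IsClosed ({y} : Set (Y i)) ∧ EGA4loc.residueDegree (g i ≫ f) y = e}) →
      {x : X // IsClosed ({x} : Set X) ∧ EGA4loc.residueDegree f x = e} := fun z =>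
    ⟨g z.1 z.2.1, (closed_and_degree_iff f he _).mpr ((residueDegree_comp f (g z.1) _).symm.trans z.2.2.2)⟩
  have hθ : Function.Bijective θ := by
    constructor
    · rintro ⟨i, y, hy⟩ ⟨j, y', hy'⟩ h
      have h' : g i y = g j y' := congrArg Subtype.val h
      obtain rfl : i = j := (hpart _ ((θ ⟨i, y, hy⟩).2.1)).unique ⟨y, rfl⟩ ⟨y', h'.symm⟩
      obtain rfl : y = y' := (g i).isEmbedding.injective h'
      rfl
    · rintro ⟨x, hx, hd⟩
      obtain ⟨i, ⟨y, rfl⟩, -⟩ := hpart x hx
      exact ⟨⟨i, y, (closed_and_degree_iff _ he _).mpr ((residueDegree_comp f (g i) y).trans hd)⟩, rfl⟩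
  haveI : ∀ i, Finite {y : Y i // IsClosed ({y} : Set (Y i)) ∧ EGA4loc.residueDegree (g i ≫ f) y = e} := fun i =>
    Finite.of_injective (fun y => θ ⟨i, y⟩) fun a b h => eq_of_heq (Sigma.mk.inj (hθ.1 h)).2
  simp only [Zeta.degCount]
  rw [← Nat.card_sigma]
  exact (Nat.card_congr (Equiv.ofBijective θ hθ)).symm

theorem zetaFun_partition {ι : Type v} [Fintype ι] (Y : ι → Scheme.{u}) (g : ∀ i, Y i ⟶ X)
    [∀ i, IsImmersion (g i)]
    (hpart : ∀ x : X, IsClosed ({x} : Set X) → ∃! i, x ∈ Set.range (g i).base) :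
    Zeta.zetaFun f = ∏ i, Zeta.zetaFun (g i ≫ f) := by
  simp only [zetaFun_eq]
  rw [← expL_sum _ _ fun i _ => constantCoeff_logZeta _]
  congr 1
  ext m
  rw [map_sum, coeff_logZeta]
  simp only [coeff_logZeta]
  rw [← Finset.sum_div, ← Nat.cast_sum]
  congr 2
  simp only [Zeta.nPts]
  rw [Finset.sum_comm]
  refine Finset.sum_congr rfl fun e he => ?_
  rw [degCount_partition f Y g hpart (Nat.pos_of_mem_divisors he).ne', Finset.mul_sum]

theorem nPts_baseChange (k' : Type u) [Field k'] [Algebra k k'] [Finite k'] (m : ℕ) :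
    Zeta.nPts (pullback.snd f (Spec.map (CommRingCat.ofHom (algebraMap k k')))) m =
      Zeta.nPts f (m * Module.finrank k k') := by
  rcases eq_or_ne m 0 with rfl | hm
  · rw [zero_mul, nPts_zero, nPts_zero]
  obtain ⟨L, _, _, _, hd⟩ := exists_extension k' m hm
  letI : Algebra k L := ((algebraMap k' L).comp (algebraMap k k')).toAlgebra
  haveI : IsScalarTower k k' L := IsScalarTower.of_algebraMap_eq' rfl
  haveI : Module.Finite k k' := Module.Finite.of_finite
  haveI : LocallyOfFiniteType (pullback.snd f (Spec.map (CommRingCat.ofHom (algebraMap k k')))) :=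
    MorphismProperty.pullback_snd _ _ inferInstance
  haveI : QuasiCompact (pullback.snd f (Spec.map (CommRingCat.ofHom (algebraMap k k')))) :=
    MorphismProperty.pullback_snd _ _ inferInstance
  rw [← hd, mul_comm, Module.finrank_mul_finrank k k' L, ← pointCount_eq_nPts, ← pointCount_eq_nPts,
    SgaExt.pointCount, SgaExt.pointCount]
  have hs : Spec.map (CommRingCat.ofHom (algebraMap k L)) =
      Spec.map (CommRingCat.ofHom (algebraMap k' L)) ≫ Spec.map (CommRingCat.ofHom (algebraMap k k')) := by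
    rw [← Spec.map_comp]
    rfl
  refine Nat.card_congr
    { toFun := fun h => ⟨h.1 ≫ pullback.fst _ _, by rw [Category.assoc, pullback.condition, ← Category.assoc, h.2, hs]⟩
      invFun := fun g => ⟨pullback.lift g.1 (Spec.map (CommRingCat.ofHom (algebraMap k' L))) (g.2.trans hs),
        pullback.lift_snd _ _ _⟩
      left_inv := fun h => Subtype.ext (pullback.hom_ext (pullback.lift_fst _ _ _)
        ((pullback.lift_snd _ _ _).trans h.2.symm))
      right_inv := fun g => Subtype.ext (pullback.lift_fst _ _ _) }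

theorem nPts_affineLine (m : ℕ) :
    Zeta.nPts ((𝔸(PUnit.{u + 1}; X) ↘ X) ≫ f) m = Nat.card k ^ m * Zeta.nPts f m := by
  rcases eq_or_ne m 0 with rfl | hm
  · rw [nPts_zero, nPts_zero, mul_zero]
  obtain ⟨L, _, _, _, hd⟩ := exists_extension k m hm
  haveI : Module.Finite k L := Module.Finite.of_finite
  rw [← hd, ← pointCount_eq_nPts, ← pointCount_eq_nPts, ← Module.natCard_eq_pow_finrank,
    SgaExt.pointCount, SgaExt.pointCount, mul_comm, ← Nat.card_prod]
  refine Nat.card_congr
    { toFun := fun h => (⟨h.1 ≫ (𝔸(PUnit.{u + 1}; X) ↘ X), by rw [Category.assoc]; exact h.2⟩,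
        (Scheme.ΓSpecIso (CommRingCat.of L)).hom (h.1.appTop (AffineSpace.coord X PUnit.unit)))
      invFun := fun z => ⟨AffineSpace.homOfVector z.1.1 fun _ => (Scheme.ΓSpecIso (CommRingCat.of L)).inv z.2, by
        rw [AffineSpace.homOfVector_over_assoc]; exact z.1.2⟩
      left_inv := fun h => Subtype.ext (AffineSpace.hom_ext (AffineSpace.homOfVector_over _ _) fun i => by
        rw [AffineSpace.homOfVector_appTop_coord]
        exact (Scheme.ΓSpecIso (CommRingCat.of L)).commRingCatIsoToRingEquiv.symm_apply_apply _)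
      right_inv := fun z => Prod.ext (Subtype.ext (AffineSpace.homOfVector_over _ _)) (by
        show (Scheme.ΓSpecIso (CommRingCat.of L)).hom ((AffineSpace.homOfVector z.1.1 _).appTop _) = z.2
        rw [AffineSpace.homOfVector_appTop_coord]
        exact (Scheme.ΓSpecIso (CommRingCat.of L)).commRingCatIsoToRingEquiv.apply_symm_apply _) }

end Groth.Agent.Zeta25
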