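import Groth.Agent.Lib.Zeta25.GeomPoints

/-!
The geometric Frobenius endomorphism of `X ×_k k̄` on closed points, and its fixed-point scheme.
-/

namespace Groth.Agent.Zeta25.Geom

open AlgebraicGeometry CategoryTheory Limits

universe u

variable {k : Type u} [Field k] {X : Scheme.{u}}

/-- A morphism from a local scheme factors through an affine open containing the closed point. -/
theorem exists_factor {R : CommRingCat.{u}} [IsLocalRing R] (h : Spec R ⟶ X) {U : X.Opens}
    (hU : IsAffineOpen U) (hx : h.base (IsLocalRing.closedPoint R) ∈ U) :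
    ∃ φ : Γ(X, U) ⟶ R, h = Spec.map φ ≫ hU.fromSpec := by
  have hr : Set.range h.base ⊆ Set.range hU.fromSpec.base := by
    rw [hU.range_fromSpec]
    rintro _ ⟨z, rfl⟩
    exact ((IsLocalRing.specializes_closedPoint z).map h.continuous).mem_open U.isOpen hx
  exact ⟨Spec.preimage (IsOpenImmersion.lift hU.fromSpec h hr), by
    rw [Spec.map_preimage, IsOpenImmersion.lift_fac]⟩

theorem exists_affine (x : X) : ∃ U : X.Opens, IsAffineOpen U ∧ x ∈ U := by
  obtain ⟨_, ⟨V, hV, rfl⟩, hxV, -⟩ :=
    X.isBasis_affineOpens.exists_subset_of_mem_open (Set.mem_univ x) isOpen_univ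
  exact ⟨V, hV, hxV⟩

variable [Finite k] (FX : X ⟶ X) (hFb : FX.base = 𝟙 _) (hle : ∀ U : X.Opens, U ≤ FX ⁻¹ᵁ U)
    (hFapp : ∀ (U : X.Opens) (s : Γ(X, U)), (FX.appLE U U (hle U)).hom s = s ^ Nat.card k)

include hFapp

/-- Composing with the Frobenius of `X` on an affine chart. -/
theorem comp_frob {R : CommRingCat.{u}} {U : X.Opens} (hU : IsAffineOpen U) (φ : Γ(X, U) ⟶ R) :
    ∃ ψ : Γ(X, U) ⟶ R, (∀ s, ψ.hom s = φ.hom s ^ Nat.card k) ∧
      (Spec.map φ ≫ hU.fromSpec) ≫ FX = Spec.map ψ ≫ hU.fromSpec := by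
  refine ⟨FX.appLE U U (hle U) ≫ φ, fun s => ?_, ?_⟩
  · show φ.hom ((FX.appLE U U (hle U)).hom s) = _
    rw [hFapp, map_pow]
  · rw [Spec.map_comp, Category.assoc, Category.assoc, hU.SpecMap_appLE_fromSpec FX hU (hle U)]

/-- The Frobenius of `X` is natural for field-valued points. -/
theorem comp_frob_eq {K : Type u} [Field K] (F0 : K →+* K) (hF0 : ∀ c, F0 c = c ^ Nat.card k)
    (h : Spec (CommRingCat.of K) ⟶ X) :
    h ≫ FX = Spec.map (CommRingCat.ofHom F0) ≫ h := by
  obtain ⟨U, hU, hxU⟩ := exists_affine (h.base (IsLocalRing.closedPoint K))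
  obtain ⟨φ, hφ⟩ := exists_factor h hU hxU
  obtain ⟨ψ, hψ, hc⟩ := comp_frob FX hle hFapp hU φ
  rw [hφ, hc, ← Category.assoc, ← Spec.map_comp]
  congr 2
  ext s
  rw [hψ]
  exact (hF0 _).symm

omit hFapp

/-- The Frobenius of `k̄` over `k`. -/
noncomputable def frK (k : Type u) [Field k] [Finite k] : AlgebraicClosure k →ₐ[k] AlgebraicClosure k :=
  letI := Fintype.ofFinite k
  FiniteField.frobeniusAlgHom k (AlgebraicClosure k)

theorem frK_apply (c : AlgebraicClosure k) : frK k c = c ^ Nat.card k := by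
  letI := Fintype.ofFinite k
  rw [Nat.card_eq_fintype_card]
  rfl

variable {f : X ⟶ Spec (CommRingCat.of k)}

/-- Frobenius acting on `k̄`-points. -/
noncomputable def frPts (h : Pts f) : Pts f :=
  ⟨Spec.map (CommRingCat.ofHom (frK k).toRingHom) ≫ h.1, by
    rw [Category.assoc, h.2, FinFr.specι, ← Spec.map_comp, ← CommRingCat.ofHom_comp, AlgHom.toRingHom_eq_coe,
      AlgHom.comp_algebraMap]⟩

/-- Frobenius acting on embeddings. -/
noncomputable def frEmb {x : X} (e : Emb f x) : Emb f x :=
  ⟨e.1 ≫ CommRingCat.ofHom (frK k).toRingHom, by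
    rw [reassoc_of% e.2, ← CommRingCat.ofHom_comp, AlgHom.toRingHom_eq_coe, AlgHom.comp_algebraMap]⟩

theorem frPts_ofEmb {x : X} (e : Emb f x) : frPts (ofEmb e) = ofEmb (frEmb e) :=
  Subtype.ext (by simp [frPts, ofEmb, frEmb, Spec.map_comp])

theorem frEmb_iterate {x : X} (e : Emb f x) (n : ℕ) (c : X.residueField x) :
    (((frEmb^[n]) e).1).hom c = e.1.hom c ^ Nat.card k ^ n := by
  induction n with
  | zero => simp
  | succ n ih =>
    rw [Function.iterate_succ_apply', pow_succ, pow_mul, ← ih]
    exact frK_apply _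

variable (F : Xb f ⟶ Xb f) (hF1 : F ≫ π f = π f ≫ FX) (hF2 : F ≫ str f = str f)

include hF1 hF2 hFapp

theorem lift_comp (h : Pts f) : lift h ≫ F = lift (frPts h) := by
  refine pullback.hom_ext ?_ ?_
  · rw [Category.assoc, hF1, lift_π_assoc, lift_π,
      comp_frob_eq FX hle hFapp (frK k).toRingHom frK_apply]
    rfl
  · rw [Category.assoc, hF2, lift_str, lift_str]

theorem map_pt (h : Pts f) : F.base (pt h) = pt (frPts h) :=
  congrArg (fun g : Spec (CommRingCat.of (AlgebraicClosure k)) ⟶ Xb f => g.base (IsLocalRing.closedPoint _))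
    (lift_comp FX hle hFapp F hF1 hF2 h)

variable [LocallyOfFiniteType f]

/-- Closed points in one fibre lie in one Frobenius orbit. -/
theorem exists_iterate_eq [QuasiCompact f] {y y' : Xb f} (hy : IsClosed ({y} : Set (Xb f)))
    (hyy' : (π f).base y' = (π f).base y) : ∃ n : ℕ, (F.base)^[n] y = y' := by
  have hx := isClosed_image f hy
  have hy' : IsClosed ({y'} : Set (Xb f)) := isClosed_of_isClosed_image f (hyy' ▸ hx)
  generalize hz : (π f).base y = x at hx hyy'
  subst hz
  obtain ⟨e, he⟩ := exists_emb_eq f y hy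
  obtain ⟨e', he'⟩ : ∃ e' : Emb f ((π f).base y), pt (ofEmb e') = y' := by
    rw [← hyy']; exact exists_emb_eq f y' hy'
  generalize (π f).base y = x at e e' hx
  letI := Fintype.ofFinite k
  letI := VarDim.resAlg f x
  haveI : Module.Finite k (X.residueField x) := WeilH13.finite_residueField_of_isClosed f x hx
  haveI : Finite (X.residueField x) := Module.finite_of_finite k
  let a : X.residueField x →ₐ[k] AlgebraicClosure k := AlgHom.mk e.1.hom fun c => ConcreteCategory.congr_hom e.2 c
  let a' : X.residueField x →ₐ[k] AlgebraicClosure k := AlgHom.mk e'.1.hom fun c => ConcreteCategory.congr_hom e'.2 c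
  letI : Algebra (X.residueField x) (AlgebraicClosure k) := a.toRingHom.toAlgebra
  haveI : IsScalarTower k (X.residueField x) (AlgebraicClosure k) :=
    IsScalarTower.of_algebraMap_eq fun c => (a.commutes c).symm
  obtain ⟨n, hn⟩ := (FiniteField.bijective_frobeniusAlgHom_pow k (X.residueField x)).2
    (a'.restrictNormal (X.residueField x))
  refine ⟨n.1, ?_⟩
  have hpow : ∀ (m : ℕ) (c : X.residueField x),
      ((FiniteField.frobeniusAlgHom k (X.residueField x)) ^ m) c = c ^ Fintype.card k ^ m := by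
    intro m
    induction m with
    | zero => intro c; simp
    | succ m ih =>
      intro c
      rw [pow_succ, AlgHom.mul_apply, ih, FiniteField.coe_frobeniusAlgHom, ← pow_mul, pow_succ']
  have hee : (frEmb^[n.1]) e = e' := by
    refine Subtype.ext (CommRingCat.hom_ext (RingHom.ext fun c => ?_))
    rw [frEmb_iterate, Nat.card_eq_fintype_card, ← map_pow, ← hpow]
    simp only at hn
    rw [hn]
    exact AlgHom.restrictNormal_commutes a' (X.residueField x) c
  have : ∀ m : ℕ, (F.base)^[m] (pt (ofEmb e)) = pt (ofEmb ((frEmb^[m]) e)) := by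
    intro m
    induction m with
    | zero => rfl
    | succ m ih =>
      rw [Function.iterate_succ_apply', Function.iterate_succ_apply', ih,
        map_pt FX hle hFapp F hF1 hF2, frPts_ofEmb]
  rw [← he, ← he', this, hee]

include hFb in
/-- A Frobenius stable closed subset descends. -/
theorem descends_iff [QuasiCompact f] {W : Set (Xb f)} (hW : IsClosed W) :
    (∃ Y : Set X, IsClosed Y ∧ (π f).base ⁻¹' Y = W) ↔ F.base '' W ⊆ W := by
  constructor
  · rintro ⟨Y, -, rfl⟩ _ ⟨y, hy, rfl⟩
    have h : (π f).base (F.base y) = FX.base ((π f).base y) := by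
      change (F ≫ π f).base y = _
      rw [hF1]; rfl
    rw [Set.mem_preimage, h, hFb]
    exact hy
  · intro hFW
    refine ⟨(π f).base '' W, (π f).isClosedMap _ hW, Set.Subset.antisymm ?_ (Set.subset_preimage_image _ _)⟩
    haveI : JacobsonSpace (Xb f) := LocallyOfFiniteType.jacobsonSpace (str f)
    have hc : IsClosed ((π f).base ⁻¹' ((π f).base '' W)) :=
      ((π f).isClosedMap _ hW).preimage (π f).continuous
    rw [← closure_inter_closedPoints (X := Xb f) hc]
    refine closure_minimal (fun y ⟨⟨w, hw, hwy⟩, hy⟩ => ?_) hW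
    have hwc : IsClosed ({w} : Set (Xb f)) := isClosed_of_isClosed_image f (hwy ▸ isClosed_image f hy)
    obtain ⟨n, rfl⟩ := exists_iterate_eq FX hle hFapp F hF1 hF2 hwc hwy.symm
    exact (Set.mapsTo_iff_image_subset.mpr hFW).iterate n hw

end Groth.Agent.Zeta25.Geom
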