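import Mathlib.RingTheory.Polynomial.Content
import Mathlib.RingTheory.Localization.Integral
import Mathlib.RingTheory.PowerSeries.Basic
import Mathlib.RingTheory.PowerSeries.Order
import Mathlib.RingTheory.PowerSeries.Trunc
import Mathlib.RingTheory.PowerSeries.NoZeroDivisors
import Mathlib.RingTheory.Localization.FractionRing
import Mathlib.Algebra.Field.ZMod

/-!
Fatou's lemma on rational power series with integer coefficients.
-/

namespace Groth.Agent.Zeta25

open Polynomial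

theorem exists_integral_multiple (P : ℚ[X]) : ∃ (P₀ : ℤ[X]) (b : ℤ), b ≠ 0 ∧
    P₀.map (Int.castRingHom ℚ) = C (b : ℚ) * P := by
  obtain ⟨b, hb⟩ := IsLocalization.integerNormalization_map_to_map (nonZeroDivisors ℤ) P
  refine ⟨IsLocalization.integerNormalization (nonZeroDivisors ℤ) P, b, nonZeroDivisors.ne_zero b.2, ?_⟩
  rw [algebraMap_int_eq] at hb
  rw [hb, ← Polynomial.smul_eq_C_mul]
  exact (Int.cast_smul_eq_zsmul ℚ (b : ℤ) P).symm

theorem isUnit_of_primitive_mul (Q₀ : ℤ[X]) (hQ : Q₀.IsPrimitive) :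
    ∀ (m : ℕ) (N : ℤ) (W : PowerSeries ℤ), N.natAbs = m → N ≠ 0 →
      (Q₀ : PowerSeries ℤ) * W = PowerSeries.C N → IsUnit (Q₀.coeff 0) := by
  intro m
  induction m using Nat.strong_induction_on with
  | _ m ih =>
  intro N W hm hN hW
  by_cases hu : IsUnit N
  · have h0 := congrArg PowerSeries.constantCoeff hW
    rw [map_mul, PowerSeries.constantCoeff_C, Polynomial.constantCoeff_coe] at h0
    exact isUnit_of_mul_isUnit_left (h0 ▸ hu)
  obtain ⟨p, hp, hpN⟩ := Nat.exists_prime_and_dvd (n := N.natAbs) fun h => hu (Int.isUnit_iff_natAbs_eq.mpr h)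
  haveI : Fact p.Prime := ⟨hp⟩
  obtain ⟨N', rfl⟩ : (p : ℤ) ∣ N := Int.natCast_dvd.mpr hpN
  have hz : PowerSeries.map (Int.castRingHom (ZMod p)) W = 0 := by
    have h := congrArg (PowerSeries.map (Int.castRingHom (ZMod p))) hW
    rw [map_mul, PowerSeries.map_C, map_mul, map_natCast, ZMod.natCast_self, zero_mul, map_zero] at h
    refine (mul_eq_zero.mp h).resolve_left fun h0 => hp.not_dvd_one ?_
    have hdvd : C (p : ℤ) ∣ Q₀ := by
      rw [Polynomial.C_dvd_iff_dvd_coeff]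
      intro i
      have := congrArg (PowerSeries.coeff i) h0
      rw [PowerSeries.coeff_map, Polynomial.coeff_coe, map_zero, eq_intCast] at this
      exact (ZMod.intCast_zmod_eq_zero_iff_dvd _ _).mp this
    have := hQ _ hdvd
    rw [Int.isUnit_iff_natAbs_eq, Int.natAbs_natCast] at this
    rw [this]
  choose w hw using fun i => show ∃ c : ℤ, PowerSeries.coeff i W = p * c by
    have := congrArg (PowerSeries.coeff i) hz
    rw [PowerSeries.coeff_map, map_zero, eq_intCast] at this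
    exact (ZMod.intCast_zmod_eq_zero_iff_dvd _ _).mp this
  have hWw : W = PowerSeries.C (p : ℤ) * PowerSeries.mk w := by
    ext i
    rw [PowerSeries.coeff_C_mul, PowerSeries.coeff_mk, hw]
  rw [hWw, mul_left_comm, map_mul] at hW
  have hp0 : PowerSeries.C (p : ℤ) ≠ 0 :=
    (map_ne_zero_iff _ PowerSeries.C_injective).mpr (by exact_mod_cast hp.ne_zero)
  refine ih N'.natAbs ?_ N' _ rfl (right_ne_zero_of_mul hN) (mul_left_cancel₀ hp0 hW)
  rw [← hm, Int.natAbs_mul, Int.natAbs_natCast]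
  exact lt_mul_left (Int.natAbs_pos.mpr (right_ne_zero_of_mul hN)) hp.one_lt

theorem fatou (P Q : ℚ[X]) (hPQ : IsCoprime P Q) (hP : P.coeff 0 = 1) (hQ : Q.coeff 0 = 1)
    (Z : PowerSeries ℤ)
    (hZ : (P : PowerSeries ℚ) = (Q : PowerSeries ℚ) * PowerSeries.map (Int.castRingHom ℚ) Z) :
    (∃ P₀ : ℤ[X], P₀.map (Int.castRingHom ℚ) = P) ∧ ∃ Q₀ : ℤ[X], Q₀.map (Int.castRingHom ℚ) = Q := by
  obtain ⟨Q₁, b, hb, hQ₁⟩ := exists_integral_multiple Q
  set Q₀ := Q₁.primPart
  have hQ0 : Q₁ ≠ 0 := fun h => by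
    have := congrArg (fun p => Polynomial.coeff p 0) hQ₁
    simp [h, hQ, hb] at this
    exact hb (by exact_mod_cast this.symm)
  have hc : Q₁.content ≠ 0 := fun h => hQ0 (Polynomial.content_eq_zero_iff.mp h)
  have hQeq : C (b : ℚ) * Q = C (Q₁.content : ℚ) * Q₀.map (Int.castRingHom ℚ) := by
    rw [← hQ₁]
    conv_lhs => rw [Q₁.eq_C_content_mul_primPart, Polynomial.map_mul, Polynomial.map_C]
    rfl
  obtain ⟨u, v, huv⟩ := hPQ
  obtain ⟨u₁, bu, hbu, hu₁⟩ := exists_integral_multiple u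
  obtain ⟨v₁, bv, hbv, hv₁⟩ := exists_integral_multiple v
  -- multiply the Bezout relation by all denominators
  have hrel : (Q₀ : PowerSeries ℤ) *
      ((C (bv * Q₁.content) * u₁ : ℤ[X]) * Z + (C (bu * Q₁.content) * v₁ : ℤ[X])) =
      PowerSeries.C (bu * bv * b) := by
    refine PowerSeries.map_injective (Int.castRingHom ℚ) Int.cast_injective ?_
    have e : ∀ p : ℤ[X], PowerSeries.map (Int.castRingHom ℚ) (p : PowerSeries ℤ) =
        ((p.map (Int.castRingHom ℚ) : ℚ[X]) : PowerSeries ℚ) := fun p => Polynomial.polynomial_map_coe.symm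
    simp only [map_mul, map_add, PowerSeries.map_C, e, Polynomial.map_mul, Polynomial.map_C, hu₁, hv₁,
      Int.coe_castRingHom, Int.cast_mul, Polynomial.coe_mul, Polynomial.coe_C]
    have h1 := congrArg (fun p : ℚ[X] => (p : PowerSeries ℚ)) huv
    have h2 := congrArg (fun p : ℚ[X] => (p : PowerSeries ℚ)) hQeq
    simp only [Polynomial.coe_add, Polynomial.coe_mul, Polynomial.coe_C, Polynomial.coe_one] at h1 h2
    linear_combination
      (-(PowerSeries.C (bv : ℚ) * PowerSeries.C (bu : ℚ)) *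
        ((u : PowerSeries ℚ) * PowerSeries.map (Int.castRingHom ℚ) Z + (v : PowerSeries ℚ))) * h2
      + (PowerSeries.C (bu : ℚ) * PowerSeries.C (bv : ℚ) * PowerSeries.C (b : ℚ)) * h1
      - (PowerSeries.C (bu : ℚ) * PowerSeries.C (bv : ℚ) * PowerSeries.C (b : ℚ) * (u : PowerSeries ℚ)) * hZ
  have hunit := isUnit_of_primitive_mul Q₀ Q₁.isPrimitive_primPart _ _ _ rfl
    (mul_ne_zero (mul_ne_zero hbu hbv) hb) hrel
  obtain ⟨e, he⟩ := hunit
  have hb0 : (b : ℚ) = (Q₁.content : ℚ) * (Q₀.coeff 0 : ℚ) := by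
    have := congrArg (fun p => Polynomial.coeff p 0) hQeq
    simpa [hQ] using this
  have hQfin : (C (e⁻¹ : ℤˣ).val * Q₀).map (Int.castRingHom ℚ) = Q := by
    have he' : ((e⁻¹ : ℤˣ) : ℚ) * (Q₀.coeff 0 : ℚ) = 1 := by
      rw [← he]; exact_mod_cast e.inv_mul
    refine mul_left_cancel₀ (Polynomial.C_ne_zero.mpr (Int.cast_ne_zero.mpr hb) : C (b : ℚ) ≠ 0) ?_
    rw [hQeq, Polynomial.map_mul, Polynomial.map_C, eq_intCast, hb0, ← mul_assoc, ← Polynomial.C_mul,
      mul_right_comm, mul_assoc, he', mul_one]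
  refine ⟨⟨?_, ?_⟩, _, hQfin⟩
  · exact PowerSeries.trunc (P.natDegree + 1) (((C (e⁻¹ : ℤˣ).val * Q₀ : ℤ[X]) : PowerSeries ℤ) * Z)
  · have h : (P : PowerSeries ℚ) =
        PowerSeries.map (Int.castRingHom ℚ) (((C (e⁻¹ : ℤˣ).val * Q₀ : ℤ[X]) : PowerSeries ℤ) * Z) := by
      rw [map_mul, ← Polynomial.polynomial_map_coe, hQfin, hZ]
    ext i
    rw [Polynomial.coeff_map, PowerSeries.coeff_trunc]
    split_ifs with hi
    · rw [← PowerSeries.coeff_map, ← h, Polynomial.coeff_coe]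
    · rw [map_zero, Polynomial.coeff_eq_zero_of_natDegree_lt (by omega)]

end Groth.Agent.Zeta25
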