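import Groth.Agent.Lib.Zeta25.PointCount
import Groth.Prelude.Def_FinFr
import Groth.Agent.S13071
import Mathlib.AlgebraicGeometry.AlgClosed.Basic

/-!
Closed points of `X ×_k k̄` versus embeddings of residue fields of closed points of `X`.
-/

namespace Groth.Agent.Zeta25.Geom

open AlgebraicGeometry CategoryTheory Limits

universe u

variable {k : Type u} [Field k] {X : Scheme.{u}} (f : X ⟶ Spec (CommRingCat.of k))

/-- The base change to the algebraic closure. -/
noncomputable abbrev Xb : Scheme.{u} := FinFr.ext (AlgebraicClosure k) f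

/-- The projection. -/
noncomputable abbrev π : Xb f ⟶ X := FinFr.extπ (AlgebraicClosure k) f

/-- The structure map. -/
noncomputable abbrev str : Xb f ⟶ Spec (CommRingCat.of (AlgebraicClosure k)) := FinFr.extStr (AlgebraicClosure k) f

/-- `k̄`-points over `k`. -/
abbrev Pts : Type u :=
  {h : Spec (CommRingCat.of (AlgebraicClosure k)) ⟶ X // h ≫ f = FinFr.specι k (AlgebraicClosure k)}

/-- `k`-embeddings of the residue field. -/
abbrev Emb (x : X) : Type u :=
  {σ : X.residueField x ⟶ CommRingCat.of (AlgebraicClosure k) //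
    CommRingCat.ofHom (VarDim.baseToRes f x) ≫ σ = CommRingCat.ofHom (algebraMap k (AlgebraicClosure k))}

instance : IsIntegralHom (π f) := by
  haveI : IsIntegralHom (FinFr.specι k (AlgebraicClosure k)) :=
    IsIntegralHom.SpecMap_iff.mpr (by
      change (algebraMap k (AlgebraicClosure k)).IsIntegral
      exact fun x => Algebra.IsIntegral.isIntegral x)
  exact MorphismProperty.pullback_fst (P := @IsIntegralHom) _ _ inferInstance

instance : Surjective (π f) := by
  haveI : Surjective (FinFr.specι k (AlgebraicClosure k)) :=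
    ⟨fun p => ⟨IsLocalRing.closedPoint _, Subsingleton.elim _ _⟩⟩
  exact MorphismProperty.pullback_fst (P := @Surjective) _ _ inferInstance

theorem π_surjective : Function.Surjective (π f).base := (π f).surjective

variable {f}

/-- The section over `k̄` defined by a `k̄`-point. -/
noncomputable def lift (h : Pts f) : Spec (CommRingCat.of (AlgebraicClosure k)) ⟶ Xb f :=
  pullback.lift h.1 (𝟙 _) (by rw [h.2, Category.id_comp])

@[reassoc (attr := simp)]
theorem lift_π (h : Pts f) : lift h ≫ π f = h.1 := pullback.lift_fst _ _ _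

@[reassoc (attr := simp)]
theorem lift_str (h : Pts f) : lift h ≫ str f = 𝟙 _ := pullback.lift_snd _ _ _

/-- The point of `X ×_k k̄` defined by a `k̄`-point. -/
noncomputable def pt (h : Pts f) : Xb f := (lift h).base (IsLocalRing.closedPoint (AlgebraicClosure k))

theorem π_pt (h : Pts f) : (π f).base (pt h) = h.1.base (IsLocalRing.closedPoint (AlgebraicClosure k)) := by
  conv_rhs => rw [← lift_π h]
  rfl

/-- The `k̄`-point given by an embedding. -/
noncomputable def ofEmb {x : X} (e : Emb f x) : Pts f :=
  ⟨Spec.map e.1 ≫ X.fromSpecResidueField x, (comp_eq_iff f _ x e.1).mpr e.2⟩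

theorem π_pt_ofEmb {x : X} (e : Emb f x) : (π f).base (pt (ofEmb e)) = x := by
  rw [π_pt]
  exact Scheme.fromSpecResidueField_apply x _

variable (f)

theorem exists_ofEmb_eq (h : Pts f) : ∃ (x : X) (e : Emb f x), ofEmb e = h :=
  ⟨_, ((pointsEquiv f (AlgebraicClosure k)) h).2, (pointsEquiv f (AlgebraicClosure k)).symm_apply_apply h⟩

theorem ofEmb_injective : Function.Injective fun z : Σ x, Emb f x => ofEmb z.2 :=
  (pointsEquiv f (AlgebraicClosure k)).symm.injective

variable [LocallyOfFiniteType f]

theorem isClosed_pt (h : Pts f) : IsClosed ({pt h} : Set (Xb f)) :=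
  (pointEquivClosedPoint (str f) ⟨lift h, lift_str h⟩).2

theorem pt_injective : Function.Injective (pt (f := f)) := fun h h' hh =>
  Subtype.ext (by rw [← lift_π h, ← lift_π h', ext_of_apply_closedPoint_eq (str f) (lift_str h) (lift_str h') hh])

theorem exists_pt_eq (y : Xb f) (hy : IsClosed ({y} : Set (Xb f))) : ∃ h : Pts f, pt h = y := by
  refine ⟨⟨pointOfClosedPoint (str f) y hy ≫ π f, ?_⟩, ?_⟩
  · rw [Category.assoc, pullback.condition, pointOfClosedPoint_comp_assoc]
  · have : lift ⟨pointOfClosedPoint (str f) y hy ≫ π f, by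
        rw [Category.assoc, pullback.condition, pointOfClosedPoint_comp_assoc]⟩ =
        pointOfClosedPoint (str f) y hy := by
      refine pullback.hom_ext ?_ ?_
      · exact lift_π _
      · exact (lift_str _).trans (pointOfClosedPoint_comp _ _ _).symm
    rw [pt, this, pointOfClosedPoint_apply]

theorem exists_emb_eq (y : Xb f) (hy : IsClosed ({y} : Set (Xb f))) :
    ∃ e : Emb f ((π f).base y), pt (ofEmb e) = y := by
  obtain ⟨h, rfl⟩ := exists_pt_eq f y hy
  obtain ⟨x, e, rfl⟩ := exists_ofEmb_eq f h
  have hx := π_pt_ofEmb e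
  generalize hz : (π f).base (pt (ofEmb e)) = z
  obtain rfl : z = x := hz.symm.trans hx
  exact ⟨e, rfl⟩

theorem isClosed_image {y : Xb f} (hy : IsClosed ({y} : Set (Xb f))) : IsClosed ({(π f).base y} : Set X) := by
  simpa using (π f).isClosedMap _ hy

theorem isClosed_of_isClosed_image [PerfectField k] [QuasiCompact f] {y : Xb f}
    (hy : IsClosed ({(π f).base y} : Set X)) : IsClosed ({y} : Set (Xb f)) := by
  haveI : JacobsonSpace (Xb f) := LocallyOfFiniteType.jacobsonSpace (str f)
  obtain ⟨z, hz, hzc⟩ := nonempty_inter_closedPoints (X := Xb f) (Z := closure {y}) ⟨y, subset_closure rfl⟩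
    isClosed_closure.isLocallyClosed
  have hyz : (π f).base z = (π f).base y := by
    have : (π f).base z ∈ closure ((π f).base '' {y}) :=
      image_closure_subset_closure_image (π f).continuous ⟨z, hz, rfl⟩
    rwa [Set.image_singleton, hy.closure_eq, Set.mem_singleton_iff] at this
  obtain ⟨σ, hσ⟩ := (Groth.Agent.S13071.result f (FinFr.galAct f) (FinFr.galAct_fst f)
    (FinFr.galAct_snd f) z y).mp hyz
  haveI : IsIso (FinFr.galAct f σ) := by
    refine ⟨FinFr.galAct f σ.symm, ?_, ?_⟩ <;> refine pullback.hom_ext ?_ ?_ <;>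
      simp only [Category.assoc, Category.id_comp, FinFr.galAct_fst, FinFr.galAct_snd,
        reassoc_of% (FinFr.galAct_snd f), ← Spec.map_comp, ← CommRingCat.ofHom_comp]
    · convert! Category.comp_id (FinFr.extStr (AlgebraicClosure k) f)
      rw [← Spec.map_id]; congr 1; ext c; simp
    · convert! Category.comp_id (FinFr.extStr (AlgebraicClosure k) f)
      rw [← Spec.map_id]; congr 1; ext c; simp
  rw [← hσ, ← Set.image_singleton]
  exact (FinFr.galAct f σ).isClosedEmbedding.isClosedMap _ hzc

/-- Closed points over a given closed point are the embeddings of its residue field. -/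
noncomputable def fibreEquiv [PerfectField k] [QuasiCompact f] (x : X) (hx : IsClosed ({x} : Set X)) :
    Emb f x ≃ {y : Xb f // (π f).base y = x} :=
  Equiv.ofBijective (fun e => ⟨pt (ofEmb e), π_pt_ofEmb e⟩) ⟨fun a b hab => by
    have := ofEmb_injective f (a₁ := ⟨x, a⟩) (a₂ := ⟨x, b⟩) (pt_injective f (congrArg Subtype.val hab))
    exact eq_of_heq (Sigma.mk.inj this).2,
  fun ⟨y, hy⟩ => by
    subst hy
    obtain ⟨e, he⟩ := exists_emb_eq f y (isClosed_of_isClosed_image f hx)
    exact ⟨e, Subtype.ext he⟩⟩

theorem finite_fibre_and_card [PerfectField k] [QuasiCompact f] (x : X) (hx : IsClosed ({x} : Set X)) :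
    Finite {y : Xb f // (π f).base y = x} ∧
      Nat.card {y : Xb f // (π f).base y = x} = EGA4loc.residueDegree f x := by
  letI := VarDim.resAlg f x
  haveI : Module.Finite k (X.residueField x) := WeilH13.finite_residueField_of_isClosed f x hx
  haveI : Algebra.IsSeparable k (X.residueField x) := Algebra.IsAlgebraic.isSeparable_of_perfectField
  let e : Emb f x ≃ (X.residueField x →ₐ[k] AlgebraicClosure k) :=
    { toFun := fun σ => AlgHom.mk σ.1.hom fun c => ConcreteCategory.congr_hom σ.2 c
      invFun := fun τ => ⟨CommRingCat.ofHom τ.toRingHom, by ext c; exact τ.commutes c⟩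
      left_inv := fun _ => rfl
      right_inv := fun _ => rfl }
  let E := (fibreEquiv f x hx).symm.trans e
  refine ⟨Finite.of_equiv _ E.symm, ?_⟩
  rw [Nat.card_congr E, Nat.card_eq_fintype_card, AlgHom.card, WeilH13.residueDegree_eq_finrank f x]

end Groth.Agent.Zeta25.Geom
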