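import Mathlib.FieldTheory.ChevalleyWarning
import Mathlib.RingTheory.MvPolynomial.Expand
import Mathlib.RingTheory.MvPolynomial.Homogeneous
import Mathlib.Algebra.CharP.Lemmas

/-!
The Hasse invariant of a hypersurface of degree `n + 1` in `n + 1` variables.
-/

namespace Groth.Agent.Zeta25

open MvPolynomial

universe u

variable {k : Type u} [Field k]

/-- The exponent `(m, …, m)`. -/
noncomputable def diag (σ : Type) [Finite σ] (m : ℕ) : σ →₀ ℕ := Finsupp.equivFunOnFinite.symm fun _ => m

@[simp] theorem diag_apply {σ : Type} [Finite σ] (m : ℕ) (i : σ) : diag σ m i = m := rfl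

theorem eq_diag_of_le {σ : Type} [Fintype σ] {d : σ →₀ ℕ} {m : ℕ} (h : ∀ i, m ≤ d i)
    (hd : d.degree ≤ Fintype.card σ * m) : d = diag σ m := by
  have hsum : ∑ i, d i ≤ Fintype.card σ * m := by
    rwa [← Finsupp.degree_eq_sum]
  ext i
  rw [diag_apply]
  by_contra hne
  have hlt : ∑ _i : σ, m < ∑ i, d i :=
    Finset.sum_lt_sum (fun j _ => h j) ⟨i, Finset.mem_univ i, lt_of_le_of_ne (h i) (Ne.symm hne)⟩
  rw [Finset.sum_const, Finset.card_univ, smul_eq_mul] at hlt
  omega

theorem sum_eval_eq [Fintype k] [DecidableEq k] (n : ℕ) (g : MvPolynomial (Fin (n + 1)) k)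
    (hg : g.IsHomogeneous ((n + 1) * (Fintype.card k - 1))) :
    ∑ a : Fin (n + 1) → k, eval a g = (-1) ^ (n + 1) * g.coeff (diag _ (Fintype.card k - 1)) := by
  classical
  simp only [eval_eq']
  rw [Finset.sum_comm]
  have key : ∀ d : Fin (n + 1) →₀ ℕ, ∑ a : Fin (n + 1) → k, ∏ i, a i ^ d i = ∏ i, ∑ x : k, x ^ d i := fun d =>
    (Fintype.prod_sum (fun i (x : k) => x ^ d i)).symm
  have hneg : ∑ x : k, x ^ (Fintype.card k - 1) = -1 := by
    have h1 : ∀ x : k, x ^ (Fintype.card k - 1) = if x = 0 then 0 else 1 := fun x => by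
      split_ifs with h
      · rw [h, zero_pow (Nat.sub_ne_zero_of_lt Fintype.one_lt_card)]
      · exact FiniteField.pow_card_sub_one_eq_one x h
    rw [Finset.sum_congr rfl fun x _ => h1 x]
    simp only [Finset.sum_ite, Finset.sum_const_zero, zero_add, Finset.sum_const, nsmul_one]
    rw [Finset.filter_ne', Finset.card_erase_of_mem (Finset.mem_univ _), Finset.card_univ,
      Nat.cast_sub Fintype.card_pos, FiniteField.cast_card_eq_zero]
    simp
  simp only [← Finset.mul_sum, key]
  rw [Finset.sum_eq_single (diag (Fin (n + 1)) (Fintype.card k - 1))]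
  · rw [Finset.prod_congr rfl fun i _ => show ∑ x : k, x ^ diag (Fin (n + 1)) (Fintype.card k - 1) i = -1 by
      rw [diag_apply, hneg], Finset.prod_const, Finset.card_univ, Fintype.card_fin, mul_comm]
  · intro d hd hne
    obtain ⟨i, hi⟩ : ∃ i, d i < Fintype.card k - 1 := by
      by_contra h
      push Not at h
      refine hne (eq_diag_of_le h ?_)
      rw [Fintype.card_fin]
      exact (hg.degree_eq_sum_deg_support hd).ge.trans' le_rfl
    rw [Finset.prod_eq_zero (Finset.mem_univ i) (FiniteField.sum_pow_lt_card_sub_one _ _ hi), mul_zero]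
  · intro h
    rw [notMem_support_iff.mp h, zero_mul]

theorem char_dvd_card_zeros_iff [Finite k] (p : ℕ) [CharP k p] (n : ℕ)
    (f : MvPolynomial (Fin (n + 1)) k) (hf : f.IsHomogeneous (n + 1)) :
    p ∣ Nat.card {a : Fin (n + 1) → k // eval a f = 0} ↔
      coeff (diag _ (Nat.card k - 1)) (f ^ (Nat.card k - 1)) = 0 := by
  classical
  letI := Fintype.ofFinite k
  rw [Nat.card_eq_fintype_card (α := k)]
  have h := sum_eval_eq n (f ^ (Fintype.card k - 1)) (by simpa [mul_comm] using hf.pow (Fintype.card k - 1))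
  have h2 : (Nat.card {a : Fin (n + 1) → k // eval a f = 0} : k) =
      -∑ a : Fin (n + 1) → k, eval a (f ^ (Fintype.card k - 1)) := by
    simp only [map_pow]
    have h1 : ∀ a : Fin (n + 1) → k, eval a f ^ (Fintype.card k - 1) = if eval a f = 0 then 0 else 1 := fun a => by
      split_ifs with h
      · rw [h, zero_pow (Nat.sub_ne_zero_of_lt Fintype.one_lt_card)]
      · exact FiniteField.pow_card_sub_one_eq_one _ h
    rw [Finset.sum_congr rfl fun a _ => h1 a, Nat.card_eq_fintype_card, Fintype.card_subtype]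
    simp only [Finset.sum_ite, Finset.sum_const_zero, zero_add, Finset.sum_const, nsmul_one]
    have htot := Finset.card_filter_add_card_filter_not (s := (Finset.univ : Finset (Fin (n + 1) → k)))
      fun a => eval a f = 0
    rw [Finset.card_univ, Fintype.card_fun, Fintype.card_fin] at htot
    have := congrArg (fun m : ℕ => (m : k)) htot
    push_cast at this
    rw [FiniteField.cast_card_eq_zero, zero_pow n.succ_ne_zero] at this
    linear_combination this
  rw [← CharP.cast_eq_zero_iff k p, h2, h, neg_eq_zero, mul_eq_zero]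
  simp

variable {p : ℕ} [Fact p.Prime] [CharP k p]

theorem coeff_step (n : ℕ) (f : MvPolynomial (Fin (n + 1)) k) (hf : f.IsHomogeneous (n + 1)) (N : ℕ) :
    coeff (diag _ (p * N + (p - 1))) (f ^ (p * N + (p - 1))) =
      coeff (diag _ N) (f ^ N) ^ p * coeff (diag _ (p - 1)) (f ^ (p - 1)) := by
  classical
  have hp := (Fact.out : p.Prime)
  rw [pow_add, mul_comm p N, pow_mul, ← map_frobenius_expand (p := p) (f := f ^ N), coeff_mul]
  rw [Finset.sum_eq_single (p • diag (Fin (n + 1)) N, diag (Fin (n + 1)) (p - 1))]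
  · rw [coeff_map, coeff_expand_smul _ hp.ne_zero, frobenius_def]
  · rintro ⟨a, b⟩ hab hne
    rw [Finset.mem_antidiagonal] at hab
    by_contra h0
    obtain ⟨ha, hb⟩ := mul_ne_zero_iff.mp h0
    rw [coeff_map] at ha
    have hdvd : ∀ i, p ∣ a i := fun i => by
      by_contra hi
      exact ha (by rw [coeff_expand_of_not_dvd _ hi, map_zero])
    have hle : ∀ i, p - 1 ≤ b i := fun i => by
      obtain ⟨c, hc⟩ := hdvd i
      have hi := congrArg (fun d : Fin (n + 1) →₀ ℕ => d i) hab
      simp only [Finsupp.add_apply, diag_apply] at hi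
      by_contra hlt
      push Not at hlt
      have h1 : (p * c + b i) % p = b i := by
        rw [Nat.mul_add_mod, Nat.mod_eq_of_lt (by omega)]
      have h2 : (N * p + (p - 1)) % p = p - 1 := by
        rw [mul_comm, Nat.mul_add_mod, Nat.mod_eq_of_lt (by have := hp.pos; omega)]
      rw [← hc, hi, h2] at h1
      omega
    have hb' : b = diag _ (p - 1) := eq_diag_of_le hle (by
      have hh := hf.pow (p - 1)
      have := (hh.degree_eq_sum_deg_support (mem_support_iff.mpr hb))
      rw [Fintype.card_fin]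
      exact this.ge.trans' le_rfl)
    refine hne (Prod.ext ?_ hb')
    ext i
    have hi := congrArg (fun d : Fin (n + 1) →₀ ℕ => d i) hab
    simp only [hb', Finsupp.add_apply, diag_apply] at hi
    simp only [Finsupp.smul_apply, diag_apply, smul_eq_mul]
    rw [mul_comm]
    omega
  · intro h
    exfalso
    apply h
    rw [Finset.mem_antidiagonal]
    ext i
    simp [mul_comm]

theorem coeff_pow_card_ne_zero_iff [Finite k] (p : ℕ) [CharP k p] (n : ℕ)
    (f : MvPolynomial (Fin (n + 1)) k) (hf : f.IsHomogeneous (n + 1)) :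
    coeff (diag _ (Nat.card k - 1)) (f ^ (Nat.card k - 1)) ≠ 0 ↔
      coeff (diag _ (p - 1)) (f ^ (p - 1)) ≠ 0 := by
  classical
  letI := Fintype.ofFinite k
  obtain ⟨e, hp, he⟩ := FiniteField.card k p
  haveI : Fact p.Prime := ⟨hp⟩
  rw [Nat.card_eq_fintype_card (α := k), he]
  set c := coeff (diag (Fin (n + 1)) (p - 1)) (f ^ (p - 1))
  have key : ∀ m : ℕ, coeff (diag _ (p ^ (m + 1) - 1)) (f ^ (p ^ (m + 1) - 1)) ≠ 0 ↔ c ≠ 0 := by
    intro m
    induction m with
    | zero => simp [c]
    | succ m ih =>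
      have hpos : 1 ≤ p ^ (m + 1) := Nat.one_le_pow _ _ hp.pos
      have : p ^ (m + 2) - 1 = p * (p ^ (m + 1) - 1) + (p - 1) := by
        have h1 : p ≤ p * p ^ (m + 1) := Nat.le_mul_of_pos_right p hpos
        have h2 : p ^ (m + 2) = p * p ^ (m + 1) := pow_succ' p (m + 1)
        have h3 : p * (p ^ (m + 1) - 1) = p * p ^ (m + 1) - p := Nat.mul_sub_one p _
        have := hp.pos
        rw [h2, h3]
        generalize p * p ^ (m + 1) = T at h1 ⊢
        omega
      rw [this, coeff_step n f hf, mul_ne_zero_iff, pow_ne_zero_iff hp.ne_zero]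
      exact ⟨fun h => h.2, fun h => ⟨ih.mpr h, h⟩⟩
  obtain ⟨m, hm⟩ : ∃ m, (e : ℕ) = m + 1 := ⟨(e : ℕ) - 1, (Nat.succ_pred_eq_of_pos e.pos).symm⟩
  rw [hm]
  exact key m

end Groth.Agent.Zeta25
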